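import Mathlib

/-!
# Seven orthogonal vectors of norm sixteen with congruences modulo four
-/

set_option autoImplicit false
set_option linter.unusedSectionVars false

namespace Cfsg.Agent.Char.SixteenNine

open Finset

theorem odd_sq_ge_one {a : ℤ} (h : Odd a) : 1 ≤ a ^ 2 := by
  have h0 : a ≠ 0 := by rintro rfl; simp at h
  have := sq_pos_of_ne_zero h0
  omega

theorem even_sq_ge_four {a : ℤ} (h : ¬ Odd a) (h0 : a ≠ 0) : 4 ≤ a ^ 2 := by
  obtain ⟨b, rfl⟩ := Int.not_odd_iff_even.mp h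
  have : 1 ≤ b ^ 2 := by
    have hb : b ≠ 0 := by rintro rfl; simp at h0
    have := sq_pos_of_ne_zero hb
    omega
  nlinarith

theorem odd_sq_mod {a : ℤ} (h : Odd a) : (8 : ℤ) ∣ a ^ 2 - 1 := Int.eight_dvd_sq_sub_one_of_odd h

theorem odd_eq_one_of_sq {a : ℤ} (h : Odd a) (h2 : a ^ 2 < 9) : a = 1 ∨ a = -1 := by
  have h3 : -3 < a ∧ a < 3 := by constructor <;> nlinarith
  obtain ⟨b, rfl⟩ := h
  omega

/-- The product of four signs with sum divisible by four. -/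
theorem four_signs_prod {a b c e : ℤ} (ha : a = 1 ∨ a = -1) (hb : b = 1 ∨ b = -1) (hc : c = 1 ∨ c = -1)
    (he : e = 1 ∨ e = -1) (h : (4 : ℤ) ∣ a + b + c + e) : a * b * c * e = 1 := by
  rcases ha with rfl | rfl <;> rcases hb with rfl | rfl <;> rcases hc with rfl | rfl <;>
    rcases he with rfl | rfl <;> omega

variable {ι : Type*} [Fintype ι]

/-- Four orthogonal vectors on eight points, two of signs and two with one entry of absolute value three. -/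
theorem eight_false [DecidableEq ι] (O : Finset ι) (u a w v : ι → ℤ) {i j : ι} (hi : i ∈ O) (hj : j ∈ O)
    {ε δ c : ℤ} (hε : ε = 1 ∨ ε = -1) (hδ : δ = 1 ∨ δ = -1)
    (hu : ∀ k ∈ O, u k = 1 ∨ u k = -1) (ha : ∀ k ∈ O, a k = 1 ∨ a k = -1)
    (hw : ∀ k ∈ O, w k = 1 ∨ w k = -1) 
    (hwi : w i = -ε) (hvj : v j = -δ) (hc : c = 1 ∨ c = -1)
    (hq : ∀ k ∈ O, u k * a k * w k * v k = c)
    (hua : ∑ k ∈ O, u k * a k = 0)
    (huW : ∑ k ∈ O, u k * w k = -4 * ε * u i) (haW : ∑ k ∈ O, a k * w k = -4 * ε * a i)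
    (huV : ∑ k ∈ O, u k * v k = -4 * δ * u j) (haV : ∑ k ∈ O, a k * v k = -4 * δ * a j)
    (hWV : ∑ k ∈ O, w k * v k + 4 * ε * v i + 4 * δ * w j + 16 * ε * δ * (if i = j then 1 else 0) = 0) :
    False := by
  have hveq : ∀ k ∈ O, v k = c * (u k * a k * w k) := by
    intro k hk
    have := hq k hk
    rcases hu k hk with e1 | e1 <;> rcases ha k hk with e2 | e2 <;> rcases hw k hk with e3 | e3 <;>
      rw [e1, e2, e3] at this ⊢ <;> rcases hc with rfl | rfl <;> omega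
  have h1 : ∑ k ∈ O, u k * v k = c * ∑ k ∈ O, a k * w k := by
    rw [mul_sum]
    refine sum_congr rfl fun k hk => ?_
    rw [hveq k hk]
    rcases hu k hk with e | e <;> rw [e] <;> ring
  have h2 : ∑ k ∈ O, a k * v k = c * ∑ k ∈ O, u k * w k := by
    rw [mul_sum]
    refine sum_congr rfl fun k hk => ?_
    rw [hveq k hk]
    rcases ha k hk with e | e <;> rw [e] <;> ring
  have h3 : ∑ k ∈ O, w k * v k = 0 := by
    rw [← mul_zero c, ← hua, mul_sum]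
    refine sum_congr rfl fun k hk => ?_
    rw [hveq k hk]
    rcases hw k hk with e | e <;> rw [e] <;> ring
  have h4 := hveq i hi
  have h5 := hveq j hj
  rw [hwi] at h4
  rw [hvj] at h5
  rw [huV, haW] at h1
  rw [haV, huW] at h2
  rw [h3, h4] at hWV
  by_cases hij : i = j
  · subst hij
    rw [if_pos rfl] at hWV
    rcases hε with rfl | rfl <;> rcases hδ with rfl | rfl <;> rcases hc with rfl | rfl <;>
      rcases hu i hi with e1 | e1 <;> rcases ha i hi with e2 | e2 <;>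
      simp only [e1, e2] at * <;> omega
  rw [if_neg hij] at hWV
  rcases hε with rfl | rfl <;> rcases hδ with rfl | rfl <;> rcases hc with rfl | rfl <;>
    rcases hu i hi with e1 | e1 <;> rcases ha i hi with e2 | e2 <;>
    rcases hu j hj with e3 | e3 <;> rcases ha j hj with e4 | e4 <;>
    simp only [e1, e2, e3, e4] at h1 h2 h5 hWV <;> omega

/-- The local parity. -/
theorem parity {e : ℤ} {y : Fin 3 → ℤ} (h : (4 : ℤ) ∣ e * e + ∑ i, y i * y i) (i : Fin 3) :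
    Odd (y i) ↔ Odd e := by
  have key : ∀ a : ℤ, (Odd a ∧ (4 : ℤ) ∣ a * a - 1) ∨ (¬ Odd a ∧ (4 : ℤ) ∣ a * a) := by
    intro a
    rcases Int.even_or_odd a with ⟨b, rfl⟩ | ⟨b, rfl⟩
    · exact Or.inr ⟨Int.not_odd_iff_even.mpr ⟨b, rfl⟩, ⟨b * b, by ring⟩⟩
    · exact Or.inl ⟨⟨b, rfl⟩, ⟨b * b + b, by ring⟩⟩
  rw [Fin.sum_univ_three] at h
  have : (Odd (y 0) ↔ Odd e) ∧ (Odd (y 1) ↔ Odd e) ∧ (Odd (y 2) ↔ Odd e) := by
    rcases key e with ⟨he, de⟩ | ⟨he, de⟩ <;> rcases key (y 0) with ⟨h0, d0⟩ | ⟨h0, d0⟩ <;>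
      rcases key (y 1) with ⟨h1, d1⟩ | ⟨h1, d1⟩ <;> rcases key (y 2) with ⟨h2, d2⟩ | ⟨h2, d2⟩ <;>
      first | (exfalso; omega) | simp only [he, h0, h1, h2, and_self]
  fin_cases i
  · exact this.1
  · exact this.2.1
  · exact this.2.2

/-- The hypotheses on one local family. -/
structure Fam (d : ι → ℤ) (y : Fin 3 → ι → ℤ) : Prop where
  norm : ∀ i, ∑ k, y i k ^ 2 = 16
  orth : ∀ i j, i ≠ j → ∑ k, y i k * y j k = 0
  orth_d : ∀ i, ∑ k, d k * y i k = 0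
  congr4 : ∀ k l, (4 : ℤ) ∣ d k * d l + ∑ i, y i k * y i l

theorem Fam.perm {d : ι → ℤ} {y : Fin 3 → ι → ℤ} (h : Fam d y) (σ : Equiv.Perm (Fin 3)) :
    Fam d fun i => y (σ i) :=
  ⟨fun _ => h.norm _, fun _ _ hij => h.orth _ _ fun e => hij (σ.injective e), fun _ => h.orth_d _,
    fun k l => by rw [Equiv.sum_comp σ (fun i => y i k * y i l)]; exact h.congr4 k l⟩

theorem sq_split (O : Finset ι) [DecidableEq ι] (x : ι → ℤ) (h : ∀ k ∈ O, Odd (x k)) :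
    ∃ t : ℕ, ∑ k ∈ O, x k ^ 2 = O.card + 8 * t ∧ (t = 0 → ∀ k ∈ O, x k = 1 ∨ x k = -1) ∧
      (t = 1 → ∃ i ∈ O, (x i = 3 ∨ x i = -3) ∧ ∀ k ∈ O, k ≠ i → x k = 1 ∨ x k = -1) := by
  have hq : ∀ k, ∃ q : ℕ, k ∈ O → x k ^ 2 = 1 + 8 * q := fun k => by
    by_cases hk : k ∈ O
    · obtain ⟨q, hq⟩ := odd_sq_mod (h k hk)
      have h1 := odd_sq_ge_one (h k hk)
      exact ⟨q.toNat, fun _ => by omega⟩
    · exact ⟨0, fun hk' => absurd hk' hk⟩
  choose q hq using hq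
  refine ⟨∑ k ∈ O, q k, ?_, fun h0 k hk => ?_, fun h1 => ?_⟩
  · rw [sum_congr rfl hq, sum_add_distrib, sum_const, Nat.cast_sum, mul_sum]
    simp
  · have := (sum_eq_zero_iff.mp h0) k hk
    refine odd_eq_one_of_sq (h k hk) ?_
    rw [hq k hk, this]; norm_num
  · obtain ⟨i, hi, hne⟩ : ∃ i ∈ O, q i ≠ 0 := by
      by_contra hc
      push Not at hc
      rw [sum_eq_zero hc] at h1
      omega
    rw [← add_sum_erase O q hi] at h1
    refine ⟨i, hi, ?_, fun k hk hki => ?_⟩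
    · have : x i ^ 2 = 3 ^ 2 := by rw [hq i hi, show q i = 1 by omega]; norm_num
      rcases sq_eq_sq_iff_eq_or_eq_neg.mp this with e | e <;> omega
    · have hz := (sum_eq_zero_iff.mp (show ∑ l ∈ O.erase i, q l = 0 by omega)) k (mem_erase.mpr ⟨hki, hk⟩)
      refine odd_eq_one_of_sq (h k hk) ?_
      rw [hq k hk, hz]; norm_num

variable [DecidableEq ι]

/-- The vectors of a family when eight entries are odd and two are even. -/
theorem full_or_empty {x : ι → ℤ} {f g : ι} {O : Finset ι} (hO : O.card = 8)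
    (huniv : ∑ k, x k ^ 2 = ∑ k ∈ O, x k ^ 2 + x f ^ 2 + x g ^ 2) (hodd : ∀ k ∈ O, Odd (x k))
    (hf : ¬ Odd (x f)) (hg : ¬ Odd (x g)) (hn : ∑ k, x k ^ 2 = 16) :
    ((x f = 2 ∨ x f = -2) ∧ (x g = 2 ∨ x g = -2) ∧ ∀ k ∈ O, x k = 1 ∨ x k = -1) ∨
    (x f = 0 ∧ x g = 0 ∧ ∃ i ∈ O, (x i = 3 ∨ x i = -3) ∧ ∀ k ∈ O, k ≠ i → x k = 1 ∨ x k = -1) := by
  obtain ⟨t, ht, h0, h1⟩ := sq_split O x hodd
  obtain ⟨a, ha⟩ := Int.not_odd_iff_even.mp hf
  obtain ⟨b, hb⟩ := Int.not_odd_iff_even.mp hg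
  rw [huniv, ht, hO, ha, hb] at hn
  push_cast at hn
  have hab : 2 * (t : ℤ) + a ^ 2 + b ^ 2 = 2 := by linarith
  have ha2 := sq_nonneg a
  have hb2 := sq_nonneg b
  have hbd : -2 < a ∧ a < 2 ∧ -2 < b ∧ b < 2 := by refine ⟨?_, ?_, ?_, ?_⟩ <;> nlinarith
  obtain ⟨ha1, ha3, hb1, hb3⟩ := hbd
  have ht1 : t ≤ 1 := by omega
  interval_cases t
  · left
    refine ⟨?_, ?_, h0 rfl⟩ <;> interval_cases a <;> interval_cases b <;> omega
  · right
    refine ⟨?_, ?_, h1 rfl⟩ <;> interval_cases a <;> interval_cases b <;> omega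

/-- No configuration with eight odd rows. -/
theorem eight_rows_false {d : ι → ℤ} {y : Fin 3 → ι → ℤ} (h : Fam d y) {f g : ι} {O : Finset ι}
    (hfg : f ≠ g) (hfO : f ∉ O) (hgO : g ∉ O) (hU : (Finset.univ : Finset ι) = insert f (insert g O))
    (hO : O.card = 8) (hdf : d f = 2 ∨ d f = -2) (hdg : d g = 2 ∨ d g = -2)
    (hdO : ∀ k ∈ O, d k = 1 ∨ d k = -1)
    (h0f : y 0 f = 2 ∨ y 0 f = -2) (h0g : y 0 g = 2 ∨ y 0 g = -2) (h0O : ∀ k ∈ O, y 0 k = 1 ∨ y 0 k = -1)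
    (hcls : d f * d g + y 0 f * y 0 g = 0)
    (h1 : y 1 f = 0 ∧ y 1 g = 0 ∧ ∃ i ∈ O, (y 1 i = 3 ∨ y 1 i = -3) ∧ ∀ k ∈ O, k ≠ i → y 1 k = 1 ∨ y 1 k = -1)
    (h2 : y 2 f = 0 ∧ y 2 g = 0 ∧ ∃ i ∈ O, (y 2 i = 3 ∨ y 2 i = -3) ∧ ∀ k ∈ O, k ≠ i → y 2 k = 1 ∨ y 2 k = -1) :
    False := by
  obtain ⟨h1f, h1g, i, hi, hi3, h1O⟩ := h1
  obtain ⟨h2f, h2g, j, hj, hj3, h2O⟩ := h2
  have hsum : ∀ F : ι → ℤ, ∑ k, F k = F f + F g + ∑ k ∈ O, F k := fun F => by
    rw [hU, sum_insert (by simp [hfg, hfO]), sum_insert hgO, add_assoc]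
  -- residues
  obtain ⟨ε, hε, hεi⟩ : ∃ ε : ℤ, (ε = 1 ∨ ε = -1) ∧ y 1 i = 3 * ε := by
    rcases hi3 with e | e
    · exact ⟨1, Or.inl rfl, by rw [e]; rfl⟩
    · exact ⟨-1, Or.inr rfl, by rw [e]; rfl⟩
  obtain ⟨δ, hδ, hδj⟩ : ∃ δ : ℤ, (δ = 1 ∨ δ = -1) ∧ y 2 j = 3 * δ := by
    rcases hj3 with e | e
    · exact ⟨1, Or.inl rfl, by rw [e]; rfl⟩
    · exact ⟨-1, Or.inr rfl, by rw [e]; rfl⟩
  set w : ι → ℤ := fun k => y 1 k - 4 * ε * (if k = i then 1 else 0) with hw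
  set v : ι → ℤ := fun k => y 2 k - 4 * δ * (if k = j then 1 else 0) with hv
  have hwi : w i = -ε := by simp only [hw, hεi, if_true]; ring
  have hvj : v j = -δ := by simp only [hv, hδj, if_true]; ring
  have hwO : ∀ k ∈ O, w k = 1 ∨ w k = -1 := fun k hk => by
    by_cases e : k = i
    · subst e; rw [hwi]; omega
    · simpa [hw, e] using h1O k hk e
  have hvO : ∀ k ∈ O, v k = 1 ∨ v k = -1 := fun k hk => by
    by_cases e : k = j
    · subst e; rw [hvj]; omega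
    · simpa [hv, e] using h2O k hk e
  have sw : ∀ x : ι → ℤ, ∑ k ∈ O, x k * y 1 k = ∑ k ∈ O, x k * w k + 4 * ε * x i := fun x => by
    have e : ∀ k ∈ O, x k * y 1 k = x k * w k + if k = i then 4 * ε * x k else 0 := fun k _ => by
      simp only [hw]; split_ifs <;> ring
    rw [sum_congr rfl e, sum_add_distrib, sum_ite_eq' O i, if_pos hi]
  have sv : ∀ x : ι → ℤ, ∑ k ∈ O, x k * y 2 k = ∑ k ∈ O, x k * v k + 4 * δ * x j := fun x => by
    have e : ∀ k ∈ O, x k * y 2 k = x k * v k + if k = j then 4 * δ * x k else 0 := fun k _ => by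
      simp only [hv]; split_ifs <;> ring
    rw [sum_congr rfl e, sum_add_distrib, sum_ite_eq' O j, if_pos hj]
  have o01 := h.orth_d 0
  have o1 := h.orth_d 1
  have o2 := h.orth_d 2
  have p1 := h.orth 0 1 (by decide)
  have p2 := h.orth 0 2 (by decide)
  have p12 := h.orth 1 2 (by decide)
  rw [hsum] at o01 o1 o2 p1 p2 p12
  simp only [h1f, h1g, h2f, h2g, mul_zero, zero_add, sw, sv] at o1 o2 p1 p2 p12
  have hua : ∑ k ∈ O, d k * y 0 k = 0 := by
    have : d f * y 0 f + d g * y 0 g = 0 := by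
      rcases hdf with e | e <;> rcases hdg with e' | e' <;> rcases h0f with e'' | e'' <;>
        rcases h0g with e3 | e3 <;> rw [e, e', e'', e3] at hcls ⊢ <;> omega
    linarith
  -- constant product
  have hk0 : ∀ k ∈ O, ∀ l ∈ O, (d k * y 0 k * w k * v k) * (d l * y 0 l * w l * v l) = 1 := by
    intro k hk l hl
    have h4 := h.congr4 k l
    rw [Fin.sum_univ_three] at h4
    have h5 : (4 : ℤ) ∣ d k * d l + y 0 k * y 0 l + w k * w l + v k * v l := by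
      obtain ⟨q, hq⟩ := h4
      refine ⟨q - ε * (y 1 k * (if l = i then 1 else 0) + (if k = i then 1 else 0) * w l) -
        δ * (y 2 k * (if l = j then 1 else 0) + (if k = j then 1 else 0) * v l), ?_⟩
      have e1 : y 1 l = w l + 4 * ε * (if l = i then 1 else 0) := by simp only [hw]; ring
      have e2 : w k = y 1 k - 4 * ε * (if k = i then 1 else 0) := by simp only [hw]
      have e3 : y 2 l = v l + 4 * δ * (if l = j then 1 else 0) := by simp only [hv]; ring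
      have e4 : v k = y 2 k - 4 * δ * (if k = j then 1 else 0) := by simp only [hv]
      rw [e1, e3] at hq
      rw [e2, e4]
      linear_combination hq
    have sgn : ∀ {a b : ℤ}, a = 1 ∨ a = -1 → b = 1 ∨ b = -1 → a * b = 1 ∨ a * b = -1 := by
      rintro a b (rfl | rfl) (rfl | rfl) <;> simp
    have := four_signs_prod (sgn (hdO k hk) (hdO l hl)) (sgn (h0O k hk) (h0O l hl))
      (sgn (hwO k hk) (hwO l hl)) (sgn (hvO k hk) (hvO l hl)) h5
    linear_combination this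
  set c := d i * y 0 i * w i * v i with hc
  have hcu : c = 1 ∨ c = -1 := Int.isUnit_iff.mp (IsUnit.of_mul_eq_one _ (hk0 i hi i hi))
  refine eight_false O d (y 0) w v hi hj hε hδ hdO h0O hwO hwi hvj hcu ?_ hua ?_ ?_ ?_ ?_ ?_
  · intro k hk
    have := hk0 k hk i hi
    rcases hcu with e | e <;> rw [← hc, e] at this <;> rw [e] <;> linarith
  · linarith
  · linarith
  · linarith
  · linarith
  · have e : y 1 j = w j + 4 * ε * (if i = j then 1 else 0) := by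
      simp only [hw, eq_comm (a := i) (b := j)]; ring
    have e2 : ∑ k ∈ O, y 1 k * v k = ∑ k ∈ O, w k * v k + 4 * ε * v i := by
      rw [sum_congr rfl fun k _ => mul_comm (y 1 k) (v k), sw v, sum_congr rfl fun k _ => mul_comm (v k) (w k)]
    rw [e, e2] at p12
    linear_combination p12

/-- The count. -/
theorem card_eq_sixteen {d : ι → ℤ} {y z : Fin 3 → ι → ℤ} (hy : Fam d y) (hz : Fam d z)
    (hd : ∀ k, d k ≠ 0) (hn : ∑ k, d k ^ 2 = 16) (hyz : ∀ i j, ∑ k, y i k * z j k = 0)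
    (hrow : ∀ k, d k ^ 2 + ∑ i, y i k ^ 2 + ∑ i, z i k ^ 2 < 16) (hk : 9 ≤ Fintype.card ι) :
    Fintype.card ι = 16 := by
  set O := univ.filter fun k => Odd (d k) with hO
  have py : ∀ i k, Odd (y i k) ↔ Odd (d k) := fun i k => parity (hy.congr4 k k) i
  have pz : ∀ i k, Odd (z i k) ↔ Odd (d k) := fun i k => parity (hz.congr4 k k) i
  have hOd : ∀ k ∈ O, Odd (d k) := fun k hk => (mem_filter.mp hk).2
  have hcard : O.card + Oᶜ.card = Fintype.card ι := O.card_add_card_compl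
  have hsplit : ∀ x : ι → ℤ, ∑ k, x k ^ 2 = ∑ k ∈ O, x k ^ 2 + ∑ k ∈ Oᶜ, x k ^ 2 := fun x =>
    (sum_add_sum_compl O _).symm
  have hF : ∀ k ∈ Oᶜ, ¬ Odd (d k) := fun k hk => by simpa [hO] using hk
  have hF4 : 4 * (Oᶜ.card : ℤ) ≤ ∑ k ∈ Oᶜ, d k ^ 2 := by
    have := Finset.card_nsmul_le_sum Oᶜ (fun k => d k ^ 2) 4 fun k hk => even_sq_ge_four (hF k hk) (hd k)
    simpa [mul_comm] using this
  obtain ⟨t, ht, hd0, -⟩ := sq_split O d hOd
  have hdn := hsplit d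
  rw [hn, ht] at hdn
  have hFdvd : (4 : ℤ) ∣ ∑ k ∈ Oᶜ, d k ^ 2 := dvd_sum fun k hk => by
    obtain ⟨b, hb⟩ := Int.not_odd_iff_even.mp (hF k hk)
    exact ⟨b ^ 2, by rw [hb]; ring⟩
  by_cases h0 : Oᶜ.card = 0
  · rw [Finset.card_eq_zero.mp h0, sum_empty, add_zero] at hdn
    omega
  have hcases : (O.card = 12 ∧ Oᶜ.card = 1 ∧ t = 0) ∨
      (O.card = 8 ∧ t = 0 ∧ (Oᶜ.card = 1 ∨ Oᶜ.card = 2)) := by omega
  rcases hcases with ⟨h12, hF1, -⟩ | ⟨h8, rfl, hF12⟩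
  · obtain ⟨f, hf⟩ := card_eq_one.mp hF1
    have hfe := hF f (by rw [hf]; exact mem_singleton_self f)
    have four : ∀ (x : ι → ℤ), (∀ k ∈ O, Odd (x k)) → ¬ Odd (x f) → ∑ k, x k ^ 2 = 16 → x f ^ 2 = 4 := by
      intro x hx hxf hx16
      obtain ⟨s, hs, -, -⟩ := sq_split O x hx
      rw [hsplit x, hs, hf, sum_singleton, h12] at hx16
      obtain ⟨b, hb⟩ := Int.not_odd_iff_even.mp hxf
      rw [hb] at hx16 ⊢
      push_cast at hx16
      have e : 2 * (s : ℤ) + b ^ 2 = 1 := by linarith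
      have := sq_nonneg b
      have : b ^ 2 = 1 := by omega
      linear_combination 4 * this
    have e1 := four d hOd hfe hn
    have e2 : ∀ i, y i f ^ 2 = 4 := fun i => four (y i) (fun k hk => (py i k).2 (hOd k hk))
      (fun h => hfe ((py i f).1 h)) (hy.norm i)
    have e3 : ∀ i, z i f ^ 2 = 4 := fun i => four (z i) (fun k hk => (pz i k).2 (hOd k hk))
      (fun h => hfe ((pz i f).1 h)) (hz.norm i)
    have := hrow f
    simp only [e1, e2, e3, sum_const, card_univ, Fintype.card_fin] at this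
    norm_num at this
  rcases hF12 with hF1 | hF2
  · obtain ⟨f, hf⟩ := card_eq_one.mp hF1
    obtain ⟨b, hb⟩ := Int.not_odd_iff_even.mp (hF f (by rw [hf]; exact mem_singleton_self f))
    rw [hf, sum_singleton, h8, hb] at hdn
    push_cast at hdn
    have hbd : -2 < b ∧ b < 2 := by constructor <;> nlinarith
    obtain ⟨hb1, hb2⟩ := hbd
    interval_cases b <;> norm_num at hdn
  obtain ⟨f, g, hfg, hF'⟩ := card_eq_two.mp hF2
  have hfc : f ∈ Oᶜ := by rw [hF']; simp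
  have hgc : g ∈ Oᶜ := by rw [hF']; simp
  have hfO : f ∉ O := mem_compl.mp hfc
  have hgO : g ∉ O := mem_compl.mp hgc
  have hU : (univ : Finset ι) = insert f (insert g O) := by
    ext k
    simp only [mem_univ, mem_insert, true_iff]
    by_cases hk : k ∈ O
    · exact Or.inr (Or.inr hk)
    · have : k ∈ Oᶜ := mem_compl.mpr hk
      rw [hF'] at this
      simp only [mem_insert, mem_singleton] at this
      tauto
  have hsum : ∀ F : ι → ℤ, ∑ k, F k = F f + F g + ∑ k ∈ O, F k := fun F => by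
    rw [hU, sum_insert (by simp [hfg, hfO]), sum_insert hgO, add_assoc]
  have type : ∀ (x : ι → ℤ), (∀ k, Odd (x k) ↔ Odd (d k)) → ∑ k, x k ^ 2 = 16 →
      ((x f = 2 ∨ x f = -2) ∧ (x g = 2 ∨ x g = -2) ∧ ∀ k ∈ O, x k = 1 ∨ x k = -1) ∨
      (x f = 0 ∧ x g = 0 ∧ ∃ i ∈ O, (x i = 3 ∨ x i = -3) ∧ ∀ k ∈ O, k ≠ i → x k = 1 ∨ x k = -1) := by
    intro x hx h16
    refine full_or_empty h8 ?_ (fun k hk => (hx k).2 (hOd k hk)) (fun h => hF f hfc ((hx f).1 h))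
      (fun h => hF g hgc ((hx g).1 h)) h16
    rw [hsum]; ring
  obtain ⟨hdf, hdg, hdO⟩ : (d f = 2 ∨ d f = -2) ∧ (d g = 2 ∨ d g = -2) ∧ ∀ k ∈ O, d k = 1 ∨ d k = -1 := by
    rcases type d (fun _ => Iff.rfl) hn with h | h
    · exact h
    · exact absurd h.1 (hd f)
  obtain ⟨o, ho⟩ : ∃ o, o ∈ O := card_pos.mp (by omega)
  -- the even rows
  have fzero : ∀ (x : Fin 3 → ι → ℤ), Fam d x → ∀ i,
      (x i f = 0 ∧ x i g = 0) ∨ ((x i f = 2 ∨ x i f = -2) ∧ (x i g = 2 ∨ x i g = -2)) := fun x hx i => by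
    rcases type (x i) (fun k => parity (hx.congr4 k k) i) (hx.norm i) with h | h
    · exact Or.inr ⟨h.1, h.2.1⟩
    · exact Or.inl ⟨h.1, h.2.1⟩
  have odd_count : ∀ (x : Fin 3 → ι → ℤ), Fam d x → Odd (∑ i, x i f ^ 2 / 4) := by
    intro x hx
    have h4 := hx.congr4 f o
    have e : ∀ i, (4 : ℤ) ∣ x i f * x i o - 2 * (x i f ^ 2 / 4) := fun i => by
      have ho' : Odd (x i o) := (parity (hx.congr4 o o) i).2 (hOd o ho)
      obtain ⟨b, hb⟩ := ho'
      rcases fzero x hx i with ⟨h, -⟩ | ⟨h | h, -⟩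
      · simp [h]
      · exact ⟨b, by rw [h, hb]; norm_num; ring⟩
      · exact ⟨-b - 1, by rw [h, hb]; norm_num; ring⟩
    have ed : (4 : ℤ) ∣ d f * d o - 2 := by
      obtain ⟨b, hb⟩ := hOd o ho
      rcases hdf with h | h
      · exact ⟨b, by rw [h, hb]; ring⟩
      · exact ⟨-b - 1, by rw [h, hb]; ring⟩
    have h5 := dvd_sum (s := univ) fun i (_ : i ∈ univ) => e i
    rw [sum_sub_distrib, ← mul_sum] at h5
    rw [Int.odd_iff]
    omega
  have hcount : ∑ i, y i f ^ 2 / 4 = 1 ∧ ∑ i, z i f ^ 2 / 4 = 1 := by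
    obtain ⟨p, hp⟩ := odd_count y hy
    obtain ⟨q, hq⟩ := odd_count z hz
    have hp0 : 0 ≤ ∑ i, y i f ^ 2 / 4 := sum_nonneg fun i _ => Int.ediv_nonneg (sq_nonneg _) (by norm_num)
    have hq0 : 0 ≤ ∑ i, z i f ^ 2 / 4 := sum_nonneg fun i _ => Int.ediv_nonneg (sq_nonneg _) (by norm_num)
    have e : ∀ (x : Fin 3 → ι → ℤ), Fam d x → ∑ i, x i f ^ 2 = 4 * ∑ i, x i f ^ 2 / 4 := fun x hx => by
      rw [mul_sum]
      refine sum_congr rfl fun i _ => ?_
      rcases fzero x hx i with ⟨h, -⟩ | ⟨h | h, -⟩ <;> simp [h]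
    have hr := hrow f
    have : d f ^ 2 = 4 := by rcases hdf with h | h <;> simp [h]
    rw [e y hy, e z hz, this] at hr
    omega
  have pick : ∀ (x : Fin 3 → ι → ℤ), Fam d x → ∑ i, x i f ^ 2 / 4 = 1 →
      ∃ σ : Equiv.Perm (Fin 3), (x (σ 0) f ≠ 0) ∧ x (σ 1) f = 0 ∧ x (σ 2) f = 0 := by
    intro x hx h1
    have e : ∀ i, x i f ^ 2 / 4 = 0 ∧ x i f = 0 ∨ x i f ^ 2 / 4 = 1 ∧ x i f ≠ 0 := fun i => by
      rcases fzero x hx i with ⟨h, -⟩ | ⟨h | h, -⟩ <;> simp [h]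
    rw [Fin.sum_univ_three] at h1
    rcases e 0 with ⟨a0, b0⟩ | ⟨a0, b0⟩ <;> rcases e 1 with ⟨a1, b1⟩ | ⟨a1, b1⟩ <;>
      rcases e 2 with ⟨a2, b2⟩ | ⟨a2, b2⟩ <;> first
        | (exfalso; omega)
        | exact ⟨1, b0, b1, b2⟩
        | exact ⟨Equiv.swap 0 1, b1, b0, b2⟩
        | exact ⟨Equiv.swap 0 2, b2, b1, b0⟩
  obtain ⟨σ, hσ0, hσ1, hσ2⟩ := pick y hy hcount.1
  obtain ⟨τ, hτ0, hτ1, hτ2⟩ := pick z hz hcount.2
  have shape : ∀ (x : Fin 3 → ι → ℤ), Fam d x → x 0 f ≠ 0 → x 1 f = 0 → x 2 f = 0 →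
      d f * d g + x 0 f * x 0 g = 0 → False := by
    intro x hx h0 h1 h2 hcls
    have tt := fun i => type (x i) (fun k => parity (hx.congr4 k k) i) (hx.norm i)
    obtain ⟨a1, a2, a3⟩ : (x 0 f = 2 ∨ x 0 f = -2) ∧ (x 0 g = 2 ∨ x 0 g = -2) ∧
        ∀ k ∈ O, x 0 k = 1 ∨ x 0 k = -1 := (tt 0).resolve_right fun h => h0 h.1
    refine eight_rows_false hx hfg hfO hgO hU h8 hdf hdg hdO a1 a2 a3 hcls
      ((tt 1).resolve_left fun h => ?_) ((tt 2).resolve_left fun h => ?_)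
    · rcases h.1 with e | e <;> omega
    · rcases h.1 with e | e <;> omega
  exfalso
  by_cases hy0 : d f * d g + y (σ 0) f * y (σ 0) g = 0
  · exact shape _ (hy.perm σ) hσ0 hσ1 hσ2 hy0
  by_cases hz0 : d f * d g + z (τ 0) f * z (τ 0) g = 0
  · exact shape _ (hz.perm τ) hτ0 hτ1 hτ2 hz0
  obtain ⟨yf, yg, yO⟩ := (type (y (σ 0)) (fun k => py _ k) (hy.norm _)).resolve_right fun h => hσ0 h.1
  obtain ⟨zf, zg, zO⟩ := (type (z (τ 0)) (fun k => pz _ k) (hz.norm _)).resolve_right fun h => hτ0 h.1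
  have o1 := hy.orth_d (σ 0)
  have o2 := hz.orth_d (τ 0)
  have o3 := hyz (σ 0) (τ 0)
  rw [hsum] at o1 o2 o3
  -- proportional on the odd rows
  have prop : ∀ (x : ι → ℤ) (s : ℤ), (s = 1 ∨ s = -1) → (∀ k ∈ O, x k = 1 ∨ x k = -1) →
      ∑ k ∈ O, d k * x k = 8 * s → ∀ k ∈ O, x k = s * d k := by
    intro x s hs hx hsum8 k hk
    have h0 : ∀ l ∈ O, 0 ≤ 1 - s * (d l * x l) := fun l hl => by
      rcases hs with rfl | rfl <;> rcases hdO l hl with e | e <;> rcases hx l hl with e' | e' <;> simp [e, e']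
    have hz0 : ∑ l ∈ O, (1 - s * (d l * x l)) = 0 := by
      rw [sum_sub_distrib, ← mul_sum, hsum8]
      simp only [sum_const, h8, nsmul_eq_mul, mul_one]
      rcases hs with rfl | rfl <;> norm_num
    have h2 := (sum_eq_zero_iff_of_nonneg h0).mp hz0 k hk
    rcases hs with rfl | rfl <;> rcases hdO k hk with e | e <;> rcases hx k hk with e' | e' <;>
      rw [e, e'] at h2 ⊢ <;> omega
  obtain ⟨sy, hsy, hy8, hsyf⟩ : ∃ s : ℤ, (s = 1 ∨ s = -1) ∧ ∑ k ∈ O, d k * y (σ 0) k = 8 * s ∧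
      y (σ 0) f = -s * d f ∧ y (σ 0) g = -s * d g := by
    rcases hdf with a | a <;> rcases hdg with b | b <;> rcases yf with c | c <;> rcases yg with e | e <;>
      simp only [a, b, c, e] at o1 hy0 ⊢ <;>
      first | (exfalso; omega) | exact ⟨1, by omega⟩ | exact ⟨-1, by omega⟩
  obtain ⟨sz, hsz, hz8, hszf⟩ : ∃ s : ℤ, (s = 1 ∨ s = -1) ∧ ∑ k ∈ O, d k * z (τ 0) k = 8 * s ∧
      z (τ 0) f = -s * d f ∧ z (τ 0) g = -s * d g := by
    rcases hdf with a | a <;> rcases hdg with b | b <;> rcases zf with c | c <;> rcases zg with e | e <;>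
      simp only [a, b, c, e] at o2 hz0 ⊢ <;>
      first | (exfalso; omega) | exact ⟨1, by omega⟩ | exact ⟨-1, by omega⟩
  have e : ∑ k ∈ O, y (σ 0) k * z (τ 0) k = 8 * (sy * sz) := by
    rw [sum_congr rfl fun k hk => show y (σ 0) k * z (τ 0) k = sy * sz by
      rw [prop _ sy hsy yO hy8 k hk, prop _ sz hsz zO hz8 k hk]
      rcases hdO k hk with r | r <;> rw [r] <;> ring]
    simp [h8]
  rw [hsyf.1, hsyf.2, hszf.1, hszf.2, e] at o3
  rcases hdf with a | a <;> rcases hdg with b | b <;> rcases hsy with rfl | rfl <;>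
    rcases hsz with rfl | rfl <;> rw [a, b] at o3 <;> omega

end Cfsg.Agent.Char.SixteenNine
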