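import Cfsg.Agent.Lib.Char.FourOrder
import Cfsg.Agent.Lib.Char.CoverBlocks
import Cfsg.Agent.Lib.Char.CliffordInd
import Cfsg.Agent.Lib.Char.SectionNorm
import Cfsg.Agent.Lib.Char.SectionSqrt
import Cfsg.Agent.Lib.Char.DihedralSection
import Cfsg.Agent.Lib.Fusion.BurnsideFusion

/-!
# The local group at an involution of a plane

A group with elementary abelian Sylow subgroup `A × B` whose normalizer centralises `A` and is transitive on `B`:
its principal block has rank three, with an orthogonal frame.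
-/

set_option autoImplicit false
set_option linter.unusedSectionVars false
set_option linter.style.haveILetI false

namespace Cfsg.Agent.Char.SixteenNine

open Cfsg
open scoped ComplexConjugate
open Cfsg.Agent.Fusion (SylIn sylIn_top)

universe u

variable {H : Type u} [Group H] [Fintype H] {M : Ideal AlgInt}

/-- With a normal complement an abelian Sylow subgroup has no fusion. -/
theorem eq_of_hnpc {P : Sylow 2 H} (hH : HasNormalPComplement 2 H)
    (hab : ∀ x ∈ (P : Subgroup H), ∀ y ∈ (P : Subgroup H), x * y = y * x)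
    {x g : H} (hx : x ∈ (P : Subgroup H)) (hg : g * x * g⁻¹ ∈ (P : Subgroup H)) : g * x * g⁻¹ = x := by
  haveI : Fact (Nat.Prime 2) := ⟨Nat.prime_two⟩
  obtain ⟨s, hs, hsa⟩ := Fusion.fusion_controlled_of_centralize (sylIn_top P)
    (fun Q hQ n hn ho => Fusion.hnpc_centralize hH (P.isPGroup'.to_le hQ) hn ho) (A := {x}) (g := g⁻¹)
    (Set.singleton_subset_iff.mpr hx) (by rintro _ ⟨_, rfl, rfl⟩; simp only [inv_inv]; exact hg)
  have h1 := hsa x rfl
  rw [inv_inv] at h1
  rw [h1, mul_assoc, hab x hx s hs, inv_mul_cancel_left]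

/-- The hypotheses on the local group. -/
structure Loc (P : Sylow 2 H) (A B : Subgroup H) : Prop where
  sq : ∀ x ∈ (P : Subgroup H), x * x = 1
  leA : A ≤ (P : Subgroup H)
  leB : B ≤ (P : Subgroup H)
  cardA : Nat.card A = 4
  cardB : Nat.card B = 4
  disj : A ⊓ B = ⊥
  fact : ∀ x ∈ (P : Subgroup H), ∃ a ∈ A, ∃ b ∈ B, a * b = x
  centA : ∀ n ∈ Subgroup.normalizer ((P : Subgroup H) : Set H), ∀ a ∈ A, n * a * n⁻¹ = a
  normB : ∀ n ∈ Subgroup.normalizer ((P : Subgroup H) : Set H), ∀ b ∈ B, n * b * n⁻¹ ∈ B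
  transB : ∀ b ∈ B, b ≠ 1 → ∀ b' ∈ B, b' ≠ 1 →
    ∃ n ∈ Subgroup.normalizer ((P : Subgroup H) : Set H), n * b * n⁻¹ = b'

variable {P : Sylow 2 H} {A B : Subgroup H}

theorem Loc.comm (h : Loc P A B) : ∀ x ∈ (P : Subgroup H), ∀ y ∈ (P : Subgroup H), x * y = y * x := by
  intro x hx y hy
  have h1 := h.sq x hx
  have h2 := h.sq y hy
  have h3 := h.sq _ (mul_mem hx hy)
  calc x * y = (x * y)⁻¹ := (inv_eq_of_mul_eq_one_right h3).symm
    _ = y⁻¹ * x⁻¹ := mul_inv_rev x y
    _ = y * x := by rw [inv_eq_of_mul_eq_one_right h1, inv_eq_of_mul_eq_one_right h2]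

theorem Loc.factor_unique (h : Loc P A B) {a a' b b' : H} (ha : a ∈ A) (ha' : a' ∈ A) (hb : b ∈ B)
    (hb' : b' ∈ B) (e : a * b = a' * b') : a = a' ∧ b = b' := by
  have e1 : a'⁻¹ * a = b' * b⁻¹ := by
    rw [inv_mul_eq_iff_eq_mul, ← mul_assoc, ← e, mul_inv_cancel_right]
  have h1 : a'⁻¹ * a = 1 := Subgroup.mem_bot.mp (h.disj ▸
    (⟨mul_mem (A.inv_mem ha') ha, e1 ▸ mul_mem hb' (B.inv_mem hb)⟩ : a'⁻¹ * a ∈ A ⊓ B))
  exact ⟨(inv_mul_eq_one.mp h1).symm, (mul_inv_eq_one.mp (e1 ▸ h1)).symm⟩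

theorem Loc.fusion (h : Loc P A B) {a a' b b' : H} (ha : a ∈ A) (ha' : a' ∈ A) (hb : b ∈ B)
    (hb' : b' ∈ B) (hc : IsConj (a * b) (a' * b')) : a = a' ∧ (b = 1 → b' = 1) := by
  haveI : Fact (Nat.Prime 2) := ⟨Nat.prime_two⟩
  obtain ⟨g, hg⟩ := isConj_iff.mp hc
  obtain ⟨n, hn, hnx⟩ := Fusion.fusion_of_abelian (sylIn_top P) (fun x hx => Subgroup.mem_centralizer_iff.mpr
    fun w hw => h.comm w hw x hx) (mul_mem (h.leA ha) (h.leB hb)) (g := g)
    (hg ▸ mul_mem (h.leA ha') (h.leB hb'))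
  obtain ⟨e1, e2⟩ := h.factor_unique ha ha' (h.normB n hn b hb) hb' (by
    rw [← hg, ← hnx]
    conv_lhs => rw [← h.centA n hn a ha]
    group)
  exact ⟨e1, fun e => by rw [← e2, e, mul_one, mul_inv_cancel]⟩

theorem Loc.exists_one (h : Loc P A B) : ∃ b ∈ B, b ≠ 1 ∧ ∃ b' ∈ B, b' ≠ 1 ∧ b' ≠ b := by
  classical
  haveI := Fintype.ofFinite B
  have hc : (Finset.univ : Finset B).card = 4 := by
    rw [Finset.card_univ, ← Nat.card_eq_fintype_card, h.cardB]
  have h1 : 2 ≤ ((Finset.univ : Finset B).erase 1).card := by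
    rw [Finset.card_erase_of_mem (Finset.mem_univ _), hc]
    norm_num
  obtain ⟨x, hx, y, hy, hxy⟩ := Finset.one_lt_card.mp h1
  exact ⟨x, x.2, fun e => (Finset.mem_erase.mp hx).1 (Subtype.ext e), y, y.2,
    fun e => (Finset.mem_erase.mp hy).1 (Subtype.ext e), fun e => hxy (Subtype.ext e.symm)⟩

theorem Loc.not_hnpc (h : Loc P A B) : ¬ HasNormalPComplement 2 H := by
  intro hH
  obtain ⟨b, hb, hb1, b', hb', hb1', hne⟩ := h.exists_one
  obtain ⟨n, -, e⟩ := h.transB b hb hb1 b' hb' hb1'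
  exact hne (e ▸ eq_of_hnpc hH h.comm (h.leB hb) (e ▸ h.leB hb'))

theorem Loc.not_hnpc_centralizer (h : Loc P A B) {a : H} (ha : a ∈ A) :
    ¬ HasNormalPComplement 2 (Subgroup.centralizer ({a} : Set H)) := by
  haveI : Fintype (Subgroup.centralizer ({a} : Set H)) := Fintype.ofFinite _
  intro hC
  have hPC : (P : Subgroup H) ≤ Subgroup.centralizer ({a} : Set H) := fun x hx =>
    Subgroup.mem_centralizer_singleton_iff.mpr (h.comm x hx a (h.leA ha))
  obtain ⟨b, hb, hb1, b', hb', hb1', hne⟩ := h.exists_one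
  obtain ⟨n, hn, e⟩ := h.transB b hb hb1 b' hb' hb1'
  have hnC : n ∈ Subgroup.centralizer ({a} : Set H) :=
    Subgroup.mem_centralizer_singleton_iff.mpr (mul_inv_eq_iff_eq_mul.mp (h.centA n hn a ha))
  have := eq_of_hnpc (P := P.subtype hPC) hC
    (fun x hx y hy => Subtype.ext (h.comm _ hx _ hy))
    (x := ⟨b, hPC (h.leB hb)⟩) (g := ⟨n, hnC⟩) (h.leB hb) (show n * b * n⁻¹ ∈ (P : Subgroup H) from e ▸ h.leB hb')
  exact hne (e ▸ congrArg Subtype.val this)

/-- The kernel of the transfer onto `A`. -/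
theorem Loc.exists_kernel (h : Loc P A B) : ∃ (K : Subgroup H) (_ : K.Normal),
    K.index = 4 ∧ (∀ g : H, ¬ 2 ∣ orderOf g → g ∈ K) ∧ ∀ x ∈ (P : Subgroup H), (x ∈ K ↔ x ∈ B) := by
  classical
  haveI : Fact (Nat.Prime 2) := ⟨Nat.prime_two⟩
  letI : CommGroup A :=
    { (inferInstance : Group A) with
      mul_comm := fun x y => Subtype.ext (h.comm _ (h.leA x.2) _ (h.leA y.2)) }
  have hsqA : ∀ x : A, x ^ 2 = 1 := fun x => Subtype.ext (by
    rw [pow_two]; exact h.sq _ (h.leA x.2))
  choose fa hfa fb hfb hf using h.fact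
  let π : (P : Subgroup H) →* A := MonoidHom.mk' (fun u => ⟨fa u.1 u.2, hfa u.1 u.2⟩) (fun u v => by
    refine Subtype.ext ?_
    refine (h.factor_unique (hfa _ (u * v).2) (mul_mem (hfa _ u.2) (hfa _ v.2)) (hfb _ (u * v).2)
      (mul_mem (hfb _ u.2) (hfb _ v.2)) ?_).1
    rw [hf]
    calc (u : H) * v = fa u.1 u.2 * fb u.1 u.2 * (fa v.1 v.2 * fb v.1 v.2) := by rw [hf, hf]
      _ = fa u.1 u.2 * (fb u.1 u.2 * fa v.1 v.2) * fb v.1 v.2 := by group
      _ = fa u.1 u.2 * (fa v.1 v.2 * fb u.1 u.2) * fb v.1 v.2 := by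
        rw [h.comm _ (h.leB (hfb _ u.2)) _ (h.leA (hfa _ v.2))]
      _ = _ := by group)
  have hπA : ∀ (u : (P : Subgroup H)) (a b : H), a ∈ A → b ∈ B → a * b = u → (π u : H) = a :=
    fun u a b ha hb e => (h.factor_unique (hfa _ _) ha (hfb _ _) hb ((hf _ u.2).trans e.symm)).1
  have hinv : ∀ (x y : (P : Subgroup H)), IsConj (x : H) (y : H) → π x = π y := by
    intro x y hc
    rw [← hf _ x.2, ← hf _ y.2] at hc
    exact Subtype.ext (h.fusion (hfa _ _) (hfa _ _) (hfb _ _) (hfb _ _) hc).1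
  have hodd : (P : Subgroup H).index % 2 = 1 := by
    have := P.not_dvd_index
    omega
  have hres : ∀ u : (P : Subgroup H), MonoidHom.transfer π (u : H) = π u := by
    intro u
    have h1 : MonoidHom.transfer π (u : H) = π u ^ (P : Subgroup H).index := by
      letI := (P : Subgroup H).fintypeQuotientOfFiniteIndex
      rw [MonoidHom.transfer_eq_prod_quotient_orbitRel_zpowers_quot,
        (P : Subgroup H).index_eq_sum_minimalPeriod (u : H), ← Finset.prod_pow_eq_pow_sum]
      refine Finset.prod_congr rfl fun q _ => ?_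
      rw [← map_pow]
      refine hinv _ _ (isConj_iff.mpr ⟨q.out.out, ?_⟩)
      simp only [SubgroupClass.coe_pow]
      group
    rw [h1]
    conv_lhs => rw [← Nat.div_add_mod (P : Subgroup H).index 2, hodd]
    rw [pow_succ, pow_mul, hsqA, one_pow, one_mul]
  have hsurj : Function.Surjective (MonoidHom.transfer π) := fun a =>
    ⟨a, (hres ⟨a, h.leA a.2⟩).trans (Subtype.ext (hπA _ a 1 a.2 (one_mem _) (mul_one _)))⟩
  refine ⟨(MonoidHom.transfer π).ker, inferInstance, ?_, fun g hg => ?_, fun x hx => ?_⟩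
  · rw [Subgroup.index_ker, MonoidHom.range_eq_top.mpr hsurj, Subgroup.card_top, h.cardA]
  · rw [MonoidHom.mem_ker]
    have h1 : orderOf (MonoidHom.transfer π g) ∣ 2 := orderOf_dvd_of_pow_eq_one (hsqA _)
    have h2 : orderOf (MonoidHom.transfer π g) ∣ orderOf g := orderOf_map_dvd _ _
    rcases (Nat.dvd_prime Nat.prime_two).mp h1 with e | e
    · exact orderOf_eq_one_iff.mp e
    · exact absurd (e ▸ h2) hg
  · rw [MonoidHom.mem_ker, show MonoidHom.transfer π x = π ⟨x, hx⟩ from hres ⟨x, hx⟩]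
    constructor
    · intro e
      have e1 : fa x hx = 1 := congrArg Subtype.val e
      have e2 := hf x hx
      rw [e1, one_mul] at e2
      exact e2 ▸ hfb x hx
    · intro hxB
      exact Subtype.ext (hπA ⟨x, hx⟩ 1 x (one_mem _) hxB (one_mul _))

/-- The kernel has four characters in its principal block, with signs. -/
theorem Loc.kernel_signs (h : Loc P A B) (hM : IsPModular 2 M) (K : Subgroup H) [K.Normal] [Fintype K]
    (hKi : K.index = 4) (hKreg : ∀ g : H, ¬ 2 ∣ orderOf g → g ∈ K)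
    (hKP : ∀ x ∈ (P : Subgroup H), (x ∈ K ↔ x ∈ B)) :
    open scoped Classical in
    ∃ z : IrrCharacter K → ℤ,
      (Finset.univ.filter fun θ : IrrCharacter K => θ ∈ principalBlock M K).card = 4 ∧
      (∀ θ ∈ principalBlock M K, z θ ^ 2 = 1) ∧
      (∀ s : K, ¬ 2 ∣ orderOf s →
        ∑ θ : IrrCharacter K with θ ∈ principalBlock M K, (z θ : ℂ) * (θ : K → ℂ) s = 0) ∧
      ∀ θ ∈ principalBlock M K, ∀ η ∈ principalBlock M K,
        einner 2 (θ : K → ℂ) (η : K → ℂ) = (if θ = η then 1 else 0) - (z θ : ℂ) * z η / 4 := by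
  classical
  haveI : Fact (Nat.Prime 2) := ⟨Nat.prime_two⟩
  have hBK : B ≤ K := fun x hx => (hKP x (h.leB hx)).mpr hx
  -- a Sylow subgroup of the kernel
  have hP16 : Nat.card (P : Subgroup H) = 16 := by
    let f : A × B → (P : Subgroup H) := fun p => ⟨p.1 * p.2, mul_mem (h.leA p.1.2) (h.leB p.2.2)⟩
    have hf : Function.Bijective f := by
      refine ⟨fun p q e => ?_, fun x => ?_⟩
      · obtain ⟨e1, e2⟩ := h.factor_unique p.1.2 q.1.2 p.2.2 q.2.2 (congrArg Subtype.val e)
        exact Prod.ext (Subtype.ext e1) (Subtype.ext e2)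
      · obtain ⟨a, ha, b, hb, e⟩ := h.fact x x.2
        exact ⟨(⟨a, ha⟩, ⟨b, hb⟩), Subtype.ext e⟩
    rw [← Nat.card_eq_of_bijective f hf, Nat.card_prod, h.cardA, h.cardB]
  have hv : (Nat.card K).factorization 2 = 2 := by
    have h1 : (Nat.card H).factorization 2 = 4 := by
      have := P.card_eq_multiplicity
      rw [show Nat.card P = 2 ^ 4 from hP16.trans (by norm_num)] at this
      exact (Nat.pow_right_injective le_rfl this).symm
    rw [← K.card_mul_index, hKi, Nat.factorization_mul Nat.card_pos.ne' (by norm_num), Finsupp.add_apply,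
      show (4 : ℕ) = 2 ^ 2 by norm_num, Nat.Prime.factorization_pow Nat.prime_two, Finsupp.single_eq_same] at h1
    omega
  have hBc : Nat.card (B.subgroupOf K) = 4 :=
    (Nat.card_congr (Subgroup.subgroupOfEquivOfLe hBK).toEquiv).trans h.cardB
  let S : Sylow 2 K := Sylow.ofCard (B.subgroupOf K) (by rw [hBc, hv]; norm_num)
  have hS : Nat.card S = 4 := hBc
  have hnc : ¬ ∃ N : Subgroup K, N.Normal ∧ N.IsComplement' (S : Subgroup K) := by
    rintro ⟨N, hN, hc⟩
    haveI := hN
    refine h.not_hnpc (Fusion.hnpc_iff.mpr ?_)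
    have hK2 : (Nat.card (pResidual 2 K)).Coprime 2 :=
      Fusion.hnpc_iff.mp ⟨S, N, hN, hc⟩
    have hle : pResidual 2 H ≤ (pResidual 2 K).map K.subtype := by
      refine (Subgroup.closure_le _).2 fun g hg => ?_
      have hgK := hKreg g ((Nat.prime_two.coprime_iff_not_dvd).1 (Nat.coprime_comm.1 hg))
      exact ⟨⟨g, hgK⟩, Subgroup.subset_closure (show (orderOf (⟨g, hgK⟩ : K)).Coprime 2 by
        rw [Subgroup.orderOf_mk]; exact hg), rfl⟩
    refine hK2.coprime_dvd_left ?_
    exact (Subgroup.card_dvd_of_le hle).trans (Subgroup.card_map_dvd _ K.subtype)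
  obtain ⟨hexp, hone⟩ := one_class_of_four S hS hnc
  obtain ⟨b, hb, hb1, -⟩ := h.exists_one
  set t : K := ⟨b, hBK hb⟩ with ht
  have htS : t ∈ (S : Subgroup K) := hb
  have ht1 : t ≠ 1 := fun e => hb1 (congrArg Subtype.val e)
  obtain ⟨z, hcard, hval, hz⟩ := four_signs hM S hS hexp hone htS ht1
  have ht2 : orderOf t = 2 := orderOf_eq_prime
    (by rw [pow_two]; exact Subtype.ext (h.sq b (h.leB hb))) ht1
  have hnp := nilp_section hM ⟨1, by rw [ht2, pow_one]⟩ (hnpc_centralizer_of_four S hS hexp htS ht1)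
  have hsing : ∀ θ ∈ principalBlock M K, ∀ g : K, 2 ∣ orderOf g → (θ : K → ℂ) g = (z θ : ℂ) := by
    intro θ hθ g hg
    obtain ⟨u, w, hw, hcm, ⟨i, hi⟩, hreg⟩ := exists_isPPart (p := 2) Nat.prime_two g
    have hu1 : u ≠ 1 := fun e => hreg (by rw [e, one_mul] at hw; rwa [hw])
    obtain ⟨Q, hQ⟩ := (IsPGroup.of_card (n := i) (by rw [Nat.card_zpowers, hi]) :
      IsPGroup 2 (Subgroup.zpowers u)).exists_le_sylow
    obtain ⟨k, hk⟩ := MulAction.exists_smul_eq K Q S
    have hm : k * u * k⁻¹ ∈ (S : Subgroup K) := by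
      rw [← hk]; exact ⟨_, hQ (Subgroup.mem_zpowers _), rfl⟩
    have hu2 : orderOf u = 2 := by
      rw [← MulEquiv.orderOf_eq (MulAut.conj k) u, MulAut.conj_apply]
      refine orderOf_eq_prime ?_ fun e => hu1 (conj_eq_one_iff.mp e)
      rw [pow_two]
      exact congrArg Subtype.val (hexp ⟨_, hm⟩)
    obtain ⟨c, hc⟩ := isConj_iff.mp (hone u t hu2 ht2)
    have hcw : Commute t (c * w * c⁻¹) := by
      rw [← hc]
      simpa [MulAut.conj_apply] using hcm.map (MulAut.conj c)
    have e : c * g * c⁻¹ = t * (c * w * c⁻¹) := by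
      rw [← hc, ← hw]; group
    rw [← isClassFunction_character (irr_isCharacter θ.2) g c, e, hnp.1 θ hθ _ hcw (by
      rwa [← MulAut.conj_apply, MulEquiv.orderOf_eq]), hval]
  have hrel : ∀ s : K, ¬ 2 ∣ orderOf s →
      ∑ θ : IrrCharacter K with θ ∈ principalBlock M K, (z θ : ℂ) * (θ : K → ℂ) s = 0 := by
    intro s hs
    have := sum_block_column_orth hM (isPBlock_principalBlock (G := K) M) (g := s) (z := 1) (h := t) (w := t)
      ⟨s, one_mul s, Commute.one_left s, ⟨0, by simp⟩, hs⟩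
      ⟨1, mul_one t, Commute.one_right t, ⟨1, by rw [ht2, pow_one]⟩, by simp⟩
      (fun hc => ht1 (isConj_one_right.mp hc))
    refine Eq.trans (Finset.sum_congr rfl fun θ _ => ?_) this
    rw [hval, map_intCast]
  have hcard4 : (Finset.univ.filter fun θ : IrrCharacter K => θ ∈ principalBlock M K).card = 4 := by
    rw [← hcard, Nat.card_eq_fintype_card, Fintype.card_subtype]
  refine ⟨z, hcard4, hz, hrel, ?_⟩
  set σ : ℂ := (Nat.card K : ℂ)⁻¹ * (Finset.univ.filter fun g : K => 2 ∣ orderOf g).card with hσdef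
  have hein : ∀ θ ∈ principalBlock M K, ∀ η ∈ principalBlock M K,
      einner 2 (θ : K → ℂ) (η : K → ℂ) = (if θ = η then 1 else 0) - σ * ((z θ : ℂ) * z η) := by
    intro θ hθ η hη
    have e := irrC_orth θ η
    rw [classInner, ← Finset.sum_filter_add_sum_filter_not Finset.univ (fun g : K => 2 ∣ orderOf g), mul_add,
      ← einner_eq_sum] at e
    rw [Finset.sum_congr rfl (g := fun _ => (z θ : ℂ) * z η) (fun g hg => by
      rw [hsing θ hθ g (Finset.mem_filter.mp hg).2, hsing η hη g (Finset.mem_filter.mp hg).2, map_intCast]),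
      Finset.sum_const, nsmul_eq_mul] at e
    rw [← e, hσdef]
    ring
  have h11 : (⟨fun _ => 1, isIrrCharacter_one⟩ : IrrCharacter K) ∈ principalBlock M K := one_mem_principal hM
  have hσ : σ = 1 / 4 := by
    set η0 : IrrCharacter K := ⟨fun _ => 1, isIrrCharacter_one⟩ with hη0
    have h0 : ∑ θ : IrrCharacter K with θ ∈ principalBlock M K,
        (z θ : ℂ) * einner 2 (θ : K → ℂ) (η0 : K → ℂ) = 0 := by
      simp only [einner_eq_sum, Finset.mul_sum]
      rw [Finset.sum_comm]
      refine Finset.sum_eq_zero fun s hs => ?_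
      rw [Finset.sum_congr rfl (g := fun θ : IrrCharacter K => (z θ : ℂ) * (θ : K → ℂ) s *
        ((Nat.card K : ℂ)⁻¹ * conj ((η0 : K → ℂ) s))) (fun θ _ => by ring), ← Finset.sum_mul,
        hrel s (Finset.mem_filter.mp hs).2, zero_mul]
    rw [Finset.sum_congr rfl (g := fun θ : IrrCharacter K =>
        (if θ = η0 then (z θ : ℂ) else 0) - σ * z η0) (fun θ hθ => by
      rw [hein θ (Finset.mem_filter.mp hθ).2 η0 h11]
      have h2 : (z θ : ℂ) ^ 2 = 1 := by exact_mod_cast hz θ (Finset.mem_filter.mp hθ).2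
      split_ifs with hif
      · linear_combination (-σ * (z η0 : ℂ)) * h2
      · linear_combination (-σ * (z η0 : ℂ)) * h2),
      Finset.sum_sub_distrib, Finset.sum_ite_eq', if_pos (Finset.mem_filter.mpr ⟨Finset.mem_univ _, h11⟩),
      Finset.sum_const, hcard4, nsmul_eq_mul] at h0
    have hne : (z η0 : ℂ) ≠ 0 := Int.cast_ne_zero.mpr fun e => by
      have := hz η0 h11
      rw [e] at this
      norm_num at this
    have : (1 - 4 * σ) * (z η0 : ℂ) = 0 := by push_cast at h0; linear_combination h0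
    rcases mul_eq_zero.mp this with e | e
    · linear_combination (-1/4 : ℂ) * e
    · exact absurd e hne
  intro θ hθ η hη
  rw [hein θ hθ η hη, hσ]
  ring

/-- The principal block of the local group has at least twelve characters. -/
theorem Loc.twelve_le (h : Loc P A B) (hM : IsPModular 2 M) :
    12 ≤ Nat.card (principalBlock M H) := by
  classical
  haveI : Fact (Nat.Prime 2) := ⟨Nat.prime_two⟩
  obtain ⟨b, hb, hb1, -⟩ := h.exists_one
  set SA : Finset H := Finset.univ.filter fun x => x ∈ A with hSA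
  have hSAc : SA.card = 4 := by
    rw [← h.cardA, Nat.card_eq_fintype_card, Fintype.card_subtype]
  have hinj : Function.Injective fun x : H => x * b := mul_left_injective b
  have hmemA : ∀ {x : H}, x ∈ SA ↔ x ∈ A := by simp [hSA]
  have hdis : Disjoint SA (SA.image fun x => x * b) := by
    rw [Finset.disjoint_left]
    intro x hx hx'
    obtain ⟨y, hy, e⟩ := Finset.mem_image.mp hx'
    exact hb1 (h.factor_unique (hmemA.mp hy) (hmemA.mp hx) hb (one_mem _) (by rw [e, mul_one])).2
  set X := SA ∪ SA.image fun x => x * b with hX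
  have hdec : ∀ x ∈ X, ∃ a ∈ A, ∃ b' ∈ B, x = a * b' ∧ (b' = 1 ∨ b' = b) := by
    intro x hx
    rcases Finset.mem_union.mp hx with hx | hx
    · exact ⟨x, hmemA.mp hx, 1, one_mem _, (mul_one x).symm, Or.inl rfl⟩
    · obtain ⟨y, hy, rfl⟩ := Finset.mem_image.mp hx
      exact ⟨y, hmemA.mp hy, b, hb, rfl, Or.inr rfl⟩
  have hXp : ∀ x ∈ X, ∃ k : ℕ, orderOf x = 2 ^ k := by
    intro x hx
    obtain ⟨a, ha, b', hb', rfl, -⟩ := hdec x hx
    obtain ⟨j, hj⟩ := IsPGroup.iff_orderOf.1 P.isPGroup' ⟨a * b', mul_mem (h.leA ha) (h.leB hb')⟩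
    exact ⟨j, by rwa [Subgroup.orderOf_mk] at hj⟩
  have hrep : ∀ g : H, (∃ k : ℕ, orderOf g = 2 ^ k) → ∃! x, x ∈ X ∧ IsConj g x := by
    intro g hg
    obtain ⟨i, hi⟩ := hg
    obtain ⟨Q, hQ⟩ := (IsPGroup.of_card (n := i) (by rw [Nat.card_zpowers, hi]) :
      IsPGroup 2 (Subgroup.zpowers g)).exists_le_sylow
    obtain ⟨k, hk⟩ := MulAction.exists_smul_eq H Q P
    have hm : k * g * k⁻¹ ∈ (P : Subgroup H) := by
      rw [← hk]; exact ⟨_, hQ (Subgroup.mem_zpowers _), rfl⟩
    obtain ⟨a, ha, b', hb', e⟩ := h.fact _ hm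
    have hex : ∃ x ∈ X, IsConj g x := by
      by_cases h1 : b' = 1
      · exact ⟨a, Finset.mem_union_left _ (hmemA.mpr ha), isConj_iff.mpr ⟨k, by rw [← e, h1, mul_one]⟩⟩
      · obtain ⟨n, hn, hnb⟩ := h.transB b' hb' h1 b hb hb1
        refine ⟨a * b, Finset.mem_union_right _ (Finset.mem_image.mpr ⟨a, hmemA.mpr ha, rfl⟩),
          isConj_iff.mpr ⟨n * k, ?_⟩⟩
        calc n * k * g * (n * k)⁻¹ = n * (k * g * k⁻¹) * n⁻¹ := by group
          _ = (n * a * n⁻¹) * (n * b' * n⁻¹) := by rw [← e]; group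
          _ = a * b := by rw [h.centA n hn a ha, hnb]
    obtain ⟨x, hx, hgx⟩ := hex
    refine ⟨x, ⟨hx, hgx⟩, ?_⟩
    rintro y ⟨hy, hgy⟩
    obtain ⟨a1, ha1, b1, hb1', rfl, hc1⟩ := hdec x hx
    obtain ⟨a2, ha2, b2, hb2', rfl, hc2⟩ := hdec y hy
    have hc := hgx.symm.trans hgy
    obtain ⟨e1, e2⟩ := h.fusion ha1 ha2 hb1' hb2' hc
    obtain ⟨-, e3⟩ := h.fusion ha2 ha1 hb2' hb1' hc.symm
    rcases hc1 with rfl | rfl <;> rcases hc2 with rfl | rfl
    · rw [e1]
    · exact absurd (e2 rfl) hb1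
    · exact absurd (e3 rfl) hb1
    · rw [e1]
  rw [card_principal_eq_sum hM X hXp hrep, hX, Finset.sum_union hdis,
    Finset.sum_image (fun x _ y _ e => hinj e)]
  have h1 : ∀ a ∈ SA, 2 ≤ blockRank 2 (principalBlock M (Subgroup.centralizer ({a} : Set H))) := by
    intro a ha
    haveI : Fintype (Subgroup.centralizer ({a} : Set H)) := Fintype.ofFinite _
    have h1 := one_le_blockRank_principal (G := Subgroup.centralizer ({a} : Set H)) hM
    have h2 := mt (blockRank_principal_eq_one_iff hM).mp (h.not_hnpc_centralizer (hmemA.mp ha))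
    omega
  have h2 : ∀ a ∈ SA, 1 ≤ blockRank 2 (principalBlock M (Subgroup.centralizer ({a * b} : Set H))) := by
    intro a ha
    haveI : Fintype (Subgroup.centralizer ({a * b} : Set H)) := Fintype.ofFinite _
    exact one_le_blockRank_principal hM
  have e1 := SA.card_nsmul_le_sum _ 2 h1
  have e2 := SA.card_nsmul_le_sum _ 1 h2
  rw [hSAc, smul_eq_mul] at e1 e2
  omega

/-- The trivial character of a normal subgroup sees only the principal block. -/
theorem mem_principal_of_constituent (hM : IsPModular 2 M) {K : Subgroup H} [K.Normal] [Fintype K]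
    {φ : IrrCharacter H} (hφ : φ ∈ principalBlock M H) {η : IrrCharacter K}
    (hη : classInner (fun k : K => (φ : H → ℂ) k) (η : K → ℂ) ≠ 0) : η ∈ principalBlock M K := by
  classical
  have hP := pmod_prime hM
  set one : IrrCharacter K := ⟨fun _ => 1, isIrrCharacter_one⟩ with hone
  have hθ : classInner (fun k : K => ((⟨fun _ => 1, isIrrCharacter_one⟩ : IrrCharacter H) : H → ℂ) k)
      (one : K → ℂ) ≠ 0 := by
    show classInner (one : K → ℂ) (one : K → ℂ) ≠ 0
    rw [irr_self one.2]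
    exact one_ne_zero
  obtain ⟨g, hg⟩ := mem_orbU_of_sameBlock hM
    ((mem_block_iff hP (isPBlock_principalBlock M) (one_mem_principal hM) φ).mp hφ) hθ hη
  have h1 := sameBlock_irrComp (MulAut.conjNormal g⁻¹) hg
  rw [irrComp_conj_mul, mul_inv_cancel, irrComp_conj_one] at h1
  exact (mem_block_iff hP (isPBlock_principalBlock M) (one_mem_principal hM) η).mpr h1

/-- The principal block of the local group has rank three. -/
theorem Loc.exists_frame (h : Loc P A B) (hM : IsPModular 2 M) :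
    blockRank 2 (principalBlock M H) = 3 ∧
    ∃ g : Fin 3 → H → ℂ, (∀ j, g j ∈ blockSpan 2 (principalBlock M H)) ∧
      (∀ i j, einner 2 (g i) (g j) = if i = j then 1 / 4 else 0) ∧
      (∀ φ ∈ principalBlock M H, ∀ j, ∃ m : ℤ, 8 * einner 2 (φ : H → ℂ) (g j) = m) ∧
      ∀ φ ∈ principalBlock M H, ∀ s : H, ¬ 2 ∣ orderOf s →
        (φ : H → ℂ) s = 4 * ∑ j, einner 2 (φ : H → ℂ) (g j) * g j s := by
  classical
  haveI : Fact (Nat.Prime 2) := ⟨Nat.prime_two⟩
  have hMp := pmod_prime hM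
  obtain ⟨K, hKn, hKi, hKreg, hKP⟩ := h.exists_kernel
  haveI := hKn
  haveI : Fintype K := Fintype.ofFinite _
  obtain ⟨z, hc4, hz, hrel, hein⟩ := h.kernel_signs hM K hKi hKreg hKP
  set S4 := Finset.univ.filter fun θ : IrrCharacter K => θ ∈ principalBlock M K with hS4
  set b0 := Finset.univ.filter fun φ : IrrCharacter H => φ ∈ principalBlock M H with hb0
  have hmemS : ∀ {θ : IrrCharacter K}, θ ∈ S4 ↔ θ ∈ principalBlock M K := by simp [hS4]
  have hres : ∀ φ : IrrCharacter H, IsCharacter K (fun k : K => (φ : H → ℂ) k) := fun φ =>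
    isCharacter_comp K.subtype (irr_isCharacter φ.2)
  choose m hm using fun (φ : IrrCharacter H) (θ : IrrCharacter K) =>
    classInner_natCast (hres φ) (irr_isCharacter θ.2)
  have hexpand : ∀ φ ∈ principalBlock M H, ∀ k : K,
      (φ : H → ℂ) k = ∑ θ ∈ S4, (m φ θ : ℂ) * (θ : K → ℂ) k := by
    intro φ hφ k
    have e := congrFun (classFun_expansion (isClassFunction_character (hres φ))) k
    simp only [Finset.sum_apply, Pi.smul_apply, smul_eq_mul, hm] at e
    rw [e]
    refine (Finset.sum_subset (Finset.subset_univ _) fun θ _ hθ => ?_).symm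
    by_cases h0 : classInner (fun k : K => (φ : H → ℂ) k) (θ : K → ℂ) = 0
    · rw [← hm φ θ, h0, zero_mul]
    · exact absurd (hmemS.mpr (mem_principal_of_constituent hM hφ h0)) hθ
  -- the bound on the characters above one character
  let Stab : IrrCharacter K → Subgroup H := fun θ =>
    { carrier := {g | irrComp (MulAut.conjNormal g) θ = θ}
      one_mem' := irrComp_conj_one θ
      mul_mem' := fun {g k} (hg : irrComp (MulAut.conjNormal g) θ = θ)
        (hk : irrComp (MulAut.conjNormal k) θ = θ) => by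
        show irrComp (MulAut.conjNormal (g * k)) θ = θ
        rw [← irrComp_conj_mul, hg, hk]
      inv_mem' := fun {g} (hg : irrComp (MulAut.conjNormal g) θ = θ) => by
        show irrComp (MulAut.conjNormal g⁻¹) θ = θ
        conv_lhs => rw [← hg]
        rw [irrComp_conj_mul, mul_inv_cancel, irrComp_conj_one] }
  have hH4 : Nat.card H = 4 * Nat.card K := by rw [← K.card_mul_index, hKi, mul_comm]
  have hnorm : ∀ θ : IrrCharacter K, (∑ φ : IrrCharacter H, m φ θ ^ 2) * Nat.card K = Nat.card (Stab θ) := by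
    intro θ
    have h1 : classInner (indFun K (θ : K → ℂ)) (indFun K (θ : K → ℂ)) = ∑ φ : IrrCharacter H, (m φ θ : ℂ) ^ 2 := by
      conv_lhs => arg 1; rw [classFun_expansion (isClassFunction_indFun K (θ : K → ℂ))]
      rw [classInner_sum_left]
      refine Finset.sum_congr rfl fun φ _ => ?_
      rw [classInner_smul_left, ← classInner_symm (φ : H → ℂ),
        frobenius_right K _ (isClassFunction_character (irr_isCharacter φ.2)), hm, Complex.conj_natCast]
      ring
    rw [classInner_indFun_normal] at h1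
    have h2 : (Nat.card (Stab θ) : ℂ) = (Nat.card K : ℂ) * ∑ φ : IrrCharacter H, (m φ θ : ℂ) ^ 2 := by
      rw [← h1, mul_inv_cancel_left₀ (Nat.cast_ne_zero.mpr Nat.card_pos.ne')]
      rfl
    rw [mul_comm]
    exact_mod_cast h2.symm
  have hfib : ∀ θ : IrrCharacter K, (b0.filter fun φ => m φ θ ≠ 0).card ≤ 4 ∧
      (Stab θ ≠ ⊤ → (b0.filter fun φ => m φ θ ≠ 0).card ≤ 2) := by
    intro θ
    have h1 : (b0.filter fun φ => m φ θ ≠ 0).card ≤ ∑ φ : IrrCharacter H, m φ θ ^ 2 := by
      rw [Finset.card_eq_sum_ones]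
      refine le_trans (Finset.sum_le_sum fun φ hφ => ?_) (Finset.sum_le_sum_of_subset (Finset.subset_univ _))
      exact Nat.one_le_pow _ _ (Nat.pos_of_ne_zero (Finset.mem_filter.mp hφ).2)
    have h2 := hnorm θ
    have hK0 : 0 < Nat.card K := Nat.card_pos
    constructor
    · have h3 := Subgroup.card_le_card_group (Stab θ)
      rw [hH4, ← h2] at h3
      exact h1.trans (Nat.le_of_mul_le_mul_right h3 hK0)
    · intro hne
      have h3 : 2 ≤ (Stab θ).index := Subgroup.one_lt_index_of_ne_top hne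
      have h4 := (Stab θ).card_mul_index
      rw [hH4, ← h2] at h4
      refine h1.trans (Nat.le_of_mul_le_mul_right (?_ : _ * Nat.card K ≤ 2 * Nat.card K) hK0)
      nlinarith
  -- three invariant characters below the block
  set I := S4.filter fun θ => Stab θ = ⊤ ∧ (b0.filter fun φ => m φ θ ≠ 0).Nonempty with hI
  have hI3 : 3 ≤ I.card := by
    let w : IrrCharacter K → ℕ := fun θ => if Stab θ = ⊤ then 2 else 1
    have h12 : 12 ≤ b0.card := by
      have := h.twelve_le hM
      rwa [Nat.card_eq_fintype_card, Fintype.card_subtype] at this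
    have hlow : ∀ φ ∈ b0, 2 ≤ ∑ θ ∈ S4, if m φ θ ≠ 0 then w θ else 0 := by
      intro φ hφ
      have hφB : φ ∈ principalBlock M H := (Finset.mem_filter.mp hφ).2
      obtain ⟨θ, hθ⟩ := exists_constituent (N := K) φ
      have hθS : θ ∈ S4 := hmemS.mpr (mem_principal_of_constituent hM hφB hθ)
      have hm0 : m φ θ ≠ 0 := fun e => hθ (by rw [hm, e, Nat.cast_zero])
      by_cases hinv : ∃ η ∈ S4, m φ η ≠ 0 ∧ Stab η = ⊤
      · obtain ⟨η, hη, hη0, hηi⟩ := hinv
        refine le_trans ?_ (Finset.single_le_sum (fun _ _ => Nat.zero_le _) hη)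
        rw [if_pos hη0]
        simp [w, hηi]
      · push Not at hinv
        obtain ⟨g, -, hg⟩ := SetLike.exists_of_lt (lt_top_iff_ne_top.mpr (hinv θ hθS hm0))
        set θ' := irrComp (MulAut.conjNormal g) θ
        have hθ' := constituent_irrComp hθ g
        have hθ'S : θ' ∈ S4 := hmemS.mpr (mem_principal_of_constituent hM hφB hθ')
        have hm' : m φ θ' ≠ 0 := fun e => hθ' (by rw [hm, e, Nat.cast_zero])
        have hne : θ ≠ θ' := fun e => hg e.symm
        have hsub : ({θ, θ'} : Finset (IrrCharacter K)) ⊆ S4 := by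
          simp [Finset.insert_subset_iff, hθS, hθ'S]
        refine le_trans ?_ (Finset.sum_le_sum_of_subset hsub)
        rw [Finset.sum_pair hne, if_pos hm0, if_pos hm']
        simp [w, hinv θ hθS hm0, hinv θ' hθ'S hm']
    have hup : ∀ θ ∈ S4, (∑ φ ∈ b0, if m φ θ ≠ 0 then w θ else 0) ≤ 2 + 6 * (if θ ∈ I then 1 else 0) := by
      intro θ hθ
      rw [← Finset.sum_filter, Finset.sum_const, smul_eq_mul]
      by_cases hinv : Stab θ = ⊤
      · by_cases hne : (b0.filter fun φ => m φ θ ≠ 0).Nonempty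
        · rw [if_pos (Finset.mem_filter.mpr ⟨hθ, hinv, hne⟩)]
          have := (hfib θ).1
          simp only [w, if_pos hinv]
          omega
        · rw [Finset.not_nonempty_iff_eq_empty.mp hne]
          simp
      · have := (hfib θ).2 hinv
        simp only [w, if_neg hinv, mul_one]
        omega
    have h1 := Finset.card_nsmul_le_sum b0 _ 2 hlow
    rw [Finset.sum_comm, smul_eq_mul] at h1
    have h2 := h1.trans (Finset.sum_le_sum hup)
    rw [Finset.sum_add_distrib, Finset.sum_const, hc4, ← Finset.mul_sum, Finset.sum_boole, smul_eq_mul,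
      Nat.cast_id, show S4.filter (fun θ => θ ∈ I) = I from
        Finset.filter_mem_eq_inter.trans (Finset.inter_eq_right.mpr (Finset.filter_subset _ _))] at h2
    omega
  -- the four functions on regular elements
  let F : IrrCharacter K → H → ℂ := fun θ =>
    extendByZero K fun k => if 2 ∣ orderOf k then 0 else (z θ : ℂ) * (θ : K → ℂ) k
  have hF0 : ∀ θ, ∀ x : H, 2 ∣ orderOf x → F θ x = 0 := by
    intro θ x hx
    by_cases hxK : x ∈ K
    · show extendByZero K _ x = 0
      rw [extendByZero_mem K _ hxK, if_pos (by rwa [Subgroup.orderOf_mk])]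
    · exact extendByZero_not_mem K _ hxK
  have hFr : ∀ θ, ∀ k : K, ¬ 2 ∣ orderOf k → F θ k = (z θ : ℂ) * (θ : K → ℂ) k := by
    intro θ k hk
    show extendByZero K _ k = _
    rw [extendByZero_mem K _ k.2, if_neg (by simpa using hk)]
  have hFsum : ∀ x : H, ∑ θ ∈ S4, F θ x = 0 := by
    intro x
    by_cases hx : 2 ∣ orderOf x
    · exact Finset.sum_eq_zero fun θ _ => hF0 θ x hx
    · rw [Finset.sum_congr rfl fun θ _ => hFr θ ⟨x, hKreg x hx⟩ (by rwa [Subgroup.orderOf_mk])]
      exact hrel _ (by rwa [Subgroup.orderOf_mk])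
  have hpr : ∀ φ ∈ principalBlock M H,
      pRegularPart 2 (φ : H → ℂ) = ∑ θ ∈ S4, ((m φ θ : ℂ) * z θ) • F θ := by
    intro φ hφ
    funext x
    simp only [Finset.sum_apply, Pi.smul_apply, smul_eq_mul]
    by_cases hx : 2 ∣ orderOf x
    · simp [pRegularPart, IsPRegular, hx, hF0 _ x hx]
    · simp only [pRegularPart, IsPRegular, hx, not_false_eq_true, if_true]
      refine (hexpand φ hφ ⟨x, hKreg x hx⟩).trans (Finset.sum_congr rfl fun θ hθ => ?_)
      rw [show F θ x = _ from hFr θ ⟨x, hKreg x hx⟩ (by rwa [Subgroup.orderOf_mk])]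
      have h2 : (z θ : ℂ) ^ 2 = 1 := by exact_mod_cast hz θ (hmemS.mp hθ)
      linear_combination (-(m φ θ : ℂ) * (θ : K → ℂ) ⟨x, hKreg x hx⟩) * h2
  have hFI : ∀ θ ∈ I, F θ ∈ blockSpan 2 (principalBlock M H) := by
    intro θ hθ
    obtain ⟨hθS, hinv, φ, hφ⟩ := Finset.mem_filter.mp hθ
    obtain ⟨hφb, hm0⟩ := Finset.mem_filter.mp hφ
    have hφB : φ ∈ principalBlock M H := (Finset.mem_filter.mp hφb).2
    have horb : cliffOrbit K θ = {θ} := by
      refine Finset.eq_singleton_iff_unique_mem.mpr ⟨self_mem_cliffOrbit θ, fun ψ hψ => ?_⟩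
      obtain ⟨g, rfl⟩ := mem_cliffOrbit.mp hψ
      exact (show g ∈ Stab θ from hinv ▸ Subgroup.mem_top g)
    have hcl := clifford_restrict φ θ (by rw [hm]; exact Nat.cast_ne_zero.mpr hm0)
    rw [horb, Finset.sum_singleton, hm] at hcl
    have e : F θ = ((z θ : ℂ) / m φ θ) • pRegularPart 2 (φ : H → ℂ) := by
      funext x
      rw [Pi.smul_apply, smul_eq_mul]
      by_cases hx : 2 ∣ orderOf x
      · simp [pRegularPart, IsPRegular, hx, hF0 _ x hx]
      · simp only [pRegularPart, IsPRegular, hx, not_false_eq_true, if_true]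
        rw [show F θ x = _ from hFr θ ⟨x, hKreg x hx⟩ (by rwa [Subgroup.orderOf_mk]),
          show (φ : H → ℂ) x = (m φ θ : ℂ) * (θ : K → ℂ) ⟨x, hKreg x hx⟩ from congrFun hcl ⟨x, hKreg x hx⟩,
          ← mul_assoc, div_mul_cancel₀ _ (Nat.cast_ne_zero.mpr hm0)]
    rw [e]
    exact Submodule.smul_mem _ _ (Submodule.subset_span ⟨φ, hφB, rfl⟩)
  have hFspan : ∀ θ ∈ S4, F θ ∈ blockSpan 2 (principalBlock M H) := by
    intro θ hθ
    by_cases hθI : θ ∈ I
    · exact hFI θ hθI
    · have hsub : I ⊆ S4.erase θ := fun η hη =>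
        Finset.mem_erase.mpr ⟨fun e => hθI (e ▸ hη), (Finset.mem_filter.mp hη).1⟩
      have heq : I = S4.erase θ := Finset.eq_of_subset_of_card_le hsub (by
        rw [Finset.card_erase_of_mem hθ, hc4]; omega)
      have e : F θ = -∑ η ∈ I, F η := by
        funext x
        have := hFsum x
        rw [← Finset.add_sum_erase S4 _ hθ, ← heq] at this
        rw [Pi.neg_apply, Finset.sum_apply]
        linear_combination this
      rw [e]
      exact Submodule.neg_mem _ (Submodule.sum_mem _ fun η hη => hFI η hη)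
  -- inner products
  have hEK : ∀ f ψ : H → ℂ, einner 2 f ψ = (1 / 4 : ℂ) * einner 2 (fun k : K => f k) (fun k : K => ψ k) := by
    intro f ψ
    rw [einner_eq_sum, einner_eq_sum, hH4]
    push_cast
    rw [mul_inv, ← mul_assoc, one_div]
    congr 1
    refine Finset.sum_bij' (fun x hx => (⟨x, hKreg x (Finset.mem_filter.mp hx).2⟩ : K)) (fun k _ => (k : H))
      ?_ ?_ ?_ ?_ ?_
    · intro x hx
      simpa using (Finset.mem_filter.mp hx).2
    · intro k hk
      simpa using (Finset.mem_filter.mp hk).2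
    · intros; rfl
    · intros; rfl
    · intros; rfl
  have hEF : ∀ (φ : IrrCharacter H), φ ∈ principalBlock M H → ∀ η ∈ S4,
      einner 2 (φ : H → ℂ) (F η) =
        (1 / 4 : ℂ) * ∑ θ ∈ S4, (m φ θ : ℂ) * ((if θ = η then (z η : ℂ) else 0) - z θ / 4) := by
    intro φ hφ η hη
    rw [hEK]
    congr 1
    have e : einner 2 (fun k : K => (φ : H → ℂ) k) (fun k : K => F η k) =
        ∑ θ ∈ S4, (m φ θ : ℂ) * ((z η : ℂ) * einner 2 (θ : K → ℂ) (η : K → ℂ)) := by
      simp only [einner_eq_sum, Finset.mul_sum]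
      rw [Finset.sum_comm]
      refine Finset.sum_congr rfl fun k hk => ?_
      rw [hexpand φ hφ k, hFr η k (Finset.mem_filter.mp hk).2, map_mul, map_intCast, Finset.sum_mul,
        Finset.mul_sum]
      exact Finset.sum_congr rfl fun θ _ => by ring
    rw [e]
    refine Finset.sum_congr rfl fun θ hθ => ?_
    rw [hein θ (hmemS.mp hθ) η (hmemS.mp hη)]
    have h2 : (z η : ℂ) ^ 2 = 1 := by exact_mod_cast hz η (hmemS.mp hη)
    congr 1
    split_ifs
    · linear_combination (-(z θ : ℂ) / 4) * h2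
    · linear_combination (-(z θ : ℂ) / 4) * h2
  have hFF : ∀ θ ∈ S4, ∀ η ∈ S4,
      einner 2 (F θ) (F η) = (1 / 4 : ℂ) * ((if θ = η then 1 else 0) - 1 / 4) := by
    intro θ hθ η hη
    rw [hEK]
    congr 1
    have e : einner 2 (fun k : K => F θ k) (fun k : K => F η k) =
        (z θ : ℂ) * z η * einner 2 (θ : K → ℂ) (η : K → ℂ) := by
      simp only [einner_eq_sum, Finset.mul_sum]
      refine Finset.sum_congr rfl fun k hk => ?_
      rw [hFr θ k (Finset.mem_filter.mp hk).2, hFr η k (Finset.mem_filter.mp hk).2, map_mul, map_intCast]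
      ring
    rw [e, hein θ (hmemS.mp hθ) η (hmemS.mp hη)]
    have h2 : (z η : ℂ) ^ 2 = 1 := by exact_mod_cast hz η (hmemS.mp hη)
    have h3 : (z θ : ℂ) ^ 2 = 1 := by exact_mod_cast hz θ (hmemS.mp hθ)
    split_ifs with hif
    · subst hif
      linear_combination (3 / 4 - (z θ : ℂ) ^ 2 / 4) * h3
    · linear_combination (-(z η : ℂ) ^ 2 / 4) * h3 - (1 / 4 : ℂ) * h2
  -- the frame
  set en := (Finset.equivFinOfCardEq hc4).symm
  let g : Fin 3 → H → ℂ := fun j => F (en 0) + F (en j.succ)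
  have hgspan : ∀ j, g j ∈ blockSpan 2 (principalBlock M H) := fun j =>
    Submodule.add_mem _ (hFspan _ (en 0).2) (hFspan _ (en j.succ).2)
  have hadd1 : ∀ f f' ψ : H → ℂ, einner 2 (f + f') ψ = einner 2 f ψ + einner 2 f' ψ := by
    intro f f' ψ
    simp only [einner_eq_sum, Pi.add_apply, add_mul, Finset.sum_add_distrib, mul_add]
  have hadd2 : ∀ f ψ ψ' : H → ℂ, einner 2 f (ψ + ψ') = einner 2 f ψ + einner 2 f ψ' := by
    intro f ψ ψ'
    simp only [einner_eq_sum, Pi.add_apply, map_add, mul_add, Finset.sum_add_distrib]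
  have heni : ∀ a b : Fin 4, ((en a : IrrCharacter K) = (en b : IrrCharacter K)) ↔ a = b := fun a b => by
    rw [Subtype.val_injective.eq_iff, en.injective.eq_iff]
  have hGram : ∀ i j, einner 2 (g i) (g j) = if i = j then (1 / 4 : ℂ) else 0 := by
    intro i j
    simp only [g, hadd1, hadd2]
    rw [hFF _ (en 0).2 _ (en 0).2, hFF _ (en 0).2 _ (en j.succ).2, hFF _ (en i.succ).2 _ (en 0).2,
      hFF _ (en i.succ).2 _ (en j.succ).2]
    simp only [heni, Fin.succ_inj, Fin.succ_ne_zero, (Fin.succ_ne_zero _).symm, if_true, if_false]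
    split_ifs <;> ring
  have hFg : ∀ θ ∈ S4, F θ ∈ Submodule.span ℂ (Set.range g) := by
    have h0 : F (en 0) ∈ Submodule.span ℂ (Set.range g) := by
      have e : F (en 0) = (1 / 2 : ℂ) • ∑ j, g j := by
        funext x
        have hs := hFsum x
        rw [← Finset.sum_coe_sort S4, ← Equiv.sum_comp en, Fin.sum_univ_four] at hs
        simp only [g, Pi.smul_apply, smul_eq_mul, Finset.sum_apply, Pi.add_apply, Fin.sum_univ_three]
        rw [show Fin.succ (0 : Fin 3) = (1 : Fin 4) from rfl, show Fin.succ (1 : Fin 3) = (2 : Fin 4) from rfl,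
          show Fin.succ (2 : Fin 3) = (3 : Fin 4) from rfl]
        linear_combination (-1 / 2 : ℂ) * hs
      rw [e]
      exact Submodule.smul_mem _ _ (Submodule.sum_mem _ fun j _ => Submodule.subset_span ⟨j, rfl⟩)
    intro θ hθ
    obtain ⟨a, ha⟩ := en.surjective ⟨θ, hθ⟩
    rw [show θ = (en a : IrrCharacter K) from (congrArg Subtype.val ha).symm]
    rcases Fin.eq_zero_or_eq_succ a with rfl | ⟨j, rfl⟩
    · exact h0
    · rw [show F (en j.succ : IrrCharacter K) = g j - F (en 0) from (add_sub_cancel_left _ _).symm]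
      exact Submodule.sub_mem _ (Submodule.subset_span ⟨j, rfl⟩) h0
  have hphi : ∀ φ ∈ principalBlock M H, pRegularPart 2 (φ : H → ℂ) ∈ Submodule.span ℂ (Set.range g) :=
    fun φ hφ => hpr φ hφ ▸ Submodule.sum_mem _ fun θ hθ => Submodule.smul_mem _ _ (hFg θ hθ)
  have hcoef : ∀ (c : Fin 3 → ℂ) (i : Fin 3), einner 2 (∑ j, c j • g j) (g i) = c i / 4 := by
    intro c i
    rw [einner_eq_sum, Finset.sum_congr rfl (g := fun x : H => ∑ j, c j * (g j x * conj (g i x))) (fun x _ => by
      simp only [Finset.sum_apply, Pi.smul_apply, smul_eq_mul, Finset.sum_mul, mul_assoc]), Finset.sum_comm,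
      Finset.mul_sum]
    rw [Finset.sum_congr rfl (g := fun j => c j * einner 2 (g j) (g i)) (fun j _ => by
      rw [← Finset.mul_sum, einner_eq_sum]; ring)]
    simp only [hGram, mul_ite, mul_zero]
    rw [Finset.sum_ite_eq', if_pos (Finset.mem_univ _)]
    ring
  have heq : blockSpan 2 (principalBlock M H) = Submodule.span ℂ (Set.range g) := by
    refine le_antisymm (Submodule.span_le.mpr ?_) (Submodule.span_le.mpr ?_)
    · rintro _ ⟨φ, hφ, rfl⟩
      exact hphi φ hφ
    · rintro _ ⟨j, rfl⟩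
      exact hgspan j
  have hli : LinearIndependent ℂ g := by
    rw [Fintype.linearIndependent_iff]
    intro c hc i
    have := hcoef c i
    rw [hc, show einner 2 (0 : H → ℂ) (g i) = 0 by simp [einner_eq_sum]] at this
    linear_combination -4 * this
  refine ⟨?_, g, hgspan, hGram, fun φ hφ j => ?_, fun φ hφ s hs => ?_⟩
  · show Module.finrank ℂ (blockSpan 2 (principalBlock M H)) = 3
    rw [heq, finrank_span_eq_card hli, Fintype.card_fin]
  · refine ⟨∑ θ ∈ S4, (m φ θ : ℤ) * ((if θ = (en 0 : IrrCharacter K) then 2 * z θ else 0) +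
      (if θ = (en j.succ : IrrCharacter K) then 2 * z θ else 0) - z θ), ?_⟩
    simp only [g, hadd2]
    rw [hEF φ hφ _ (en 0).2, hEF φ hφ _ (en j.succ).2, ← mul_add, ← Finset.sum_add_distrib]
    push_cast
    rw [← mul_assoc, Finset.mul_sum]
    refine Finset.sum_congr rfl fun θ _ => ?_
    split_ifs with h1 h2 h2
    all_goals first
      | exact absurd ((heni _ _).mp (h1.symm.trans h2)) (Fin.succ_ne_zero j).symm
      | (subst h1; ring)
      | (subst h2; ring)
      | ring
  · obtain ⟨c, hc⟩ := (Submodule.mem_span_range_iff_exists_fun ℂ).mp (hphi φ hφ)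
    have hs' : pRegularPart 2 (φ : H → ℂ) s = (φ : H → ℂ) s := by
      simp [pRegularPart, IsPRegular, hs]
    have hci : ∀ i, einner 2 (φ : H → ℂ) (g i) = c i / 4 := by
      intro i
      rw [← hcoef c i, hc]
      simp only [einner_eq_sum]
      congr 1
      refine Finset.sum_congr rfl fun x hx => ?_
      simp [pRegularPart, IsPRegular, (Finset.mem_filter.mp hx).2]
    rw [← hs', ← hc]
    simp only [hci, Finset.sum_apply, Pi.smul_apply, smul_eq_mul, Finset.mul_sum]
    exact Finset.sum_congr rfl fun i _ => by ring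

end Cfsg.Agent.Char.SixteenNine
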