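import Cfsg.Agent.Lib.Char.SixteenNine.Setup
import Cfsg.Agent.Lib.Char.SixteenNine.Local
import Cfsg.Agent.Lib.Char.SixteenNine.Combi
import Cfsg.Agent.Lib.Char.Q8Block
import Cfsg.Agent.Lib.Char.MajorSubsection
import Cfsg.Agent.Lib.Char.FrobSylowLift
import Cfsg.Agent.Lib.Char.Contrib

/-!
# The principal block for an elementary abelian Sylow subgroup of order sixteen with automizer of order nine
-/

set_option autoImplicit false
set_option linter.unusedSectionVars false
set_option linter.style.haveILetI false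

namespace Cfsg.Agent.Char.SixteenNine

open Cfsg
open scoped ComplexConjugate
open Cfsg.Agent.Fusion (SylIn sylIn_top)

universe u

variable {G : Type u} [Group G] [Fintype G] {M : Ideal AlgInt}

open scoped Classical in
/-- The average of a function over the section of `x`. -/
noncomputable def secAvg (x : G) (F : G → ℂ) : ℂ :=
  (Nat.card (Subgroup.centralizer ({x} : Set G)) : ℂ)⁻¹ *
    ∑ s : G with Commute x s ∧ ¬ 2 ∣ orderOf s, F (x * s)

open scoped Classical in
theorem secAvg_eq_cent (x : G) [Fintype (Subgroup.centralizer ({x} : Set G))] (F : G → ℂ) :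
    secAvg x F = (Nat.card (Subgroup.centralizer ({x} : Set G)) : ℂ)⁻¹ *
      ∑ s : Subgroup.centralizer ({x} : Set G) with ¬ 2 ∣ orderOf s, F (x * (s : G)) := by
  rw [secAvg]
  congr 1
  refine Finset.sum_bij'
    (fun s hs => (⟨s, Subgroup.mem_centralizer_singleton_iff.mpr (Finset.mem_filter.mp hs).2.1.symm.eq⟩ :
      Subgroup.centralizer ({x} : Set G)))
    (fun s _ => (s : G)) ?_ ?_ ?_ ?_ ?_
  · intro s hs
    simpa using (Finset.mem_filter.mp hs).2.2
  · intro s hs
    refine Finset.mem_filter.mpr ⟨Finset.mem_univ _, (Subgroup.mem_centralizer_singleton_iff.mp s.2).symm, ?_⟩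
    rw [Subgroup.orderOf_coe]
    exact (Finset.mem_filter.mp hs).2
  · intros; rfl
  · intros; rfl
  · intros; rfl

open scoped Classical in
/-- Summing a class function over a section. -/
theorem section_sum {x : G} (hx : ∃ k : ℕ, orderOf x = 2 ^ k) {F : G → ℂ} (hF : IsClassFunction G F) :
    ∑ g : G with IsConj (ppt 2 g) x, F g = (Nat.card G : ℂ) * secAvg x F := by
  haveI : Fintype (Subgroup.centralizer ({x} : Set G)) := Fintype.ofFinite _
  have h2 := Nat.prime_two
  set S := Finset.univ.filter fun s : G => Commute x s ∧ ¬ 2 ∣ orderOf s with hS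
  have hppt : ∀ p : G × G, p ∈ Finset.univ ×ˢ S →
      ppt 2 (p.1 * (x * p.2) * p.1⁻¹) = p.1 * x * p.1⁻¹ := by
    intro p hp
    obtain ⟨hc, hr⟩ := (Finset.mem_filter.mp (Finset.mem_product.mp hp).2).2
    rw [ppt_conj h2, ppt_mul h2 hc hx hr]
  have hfib : ∀ g ∈ (Finset.univ.filter fun g : G => IsConj (ppt 2 g) x),
      ((Finset.univ ×ˢ S).filter fun p => p.1 * (x * p.2) * p.1⁻¹ = g).card =
        Nat.card (Subgroup.centralizer ({x} : Set G)) := by
    intro g hg
    obtain ⟨k₀, hk₀⟩ := isConj_iff.mp (Finset.mem_filter.mp hg).2.symm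
    rw [Nat.card_eq_fintype_card, ← Finset.card_univ]
    symm
    refine Finset.card_bij (fun (c : Subgroup.centralizer ({x} : Set G)) _ =>
      (k₀ * (c : G), x⁻¹ * ((k₀ * (c : G))⁻¹ * g * (k₀ * (c : G))))) ?_ ?_ ?_
    · intro c _
      have hcx : (c : G) * x = x * c := Subgroup.mem_centralizer_singleton_iff.mp c.2
      have hk : k₀ * c * x * (k₀ * (c : G))⁻¹ = ppt 2 g := by
        rw [← hk₀]
        calc k₀ * c * x * (k₀ * (c : G))⁻¹ = k₀ * ((c : G) * x * (c : G)⁻¹) * k₀⁻¹ := by group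
          _ = _ := by rw [hcx, mul_inv_cancel_right]
      set k := k₀ * (c : G)
      have hp : ppt 2 (k⁻¹ * g * k) = x := by
        have := ppt_conj h2 g k⁻¹
        rw [inv_inv] at this
        rw [this, ← hk]
        group
      obtain ⟨w, hw, hcm, -, hr⟩ := hp ▸ isPPart_ppt h2 (k⁻¹ * g * k)
      rw [show x⁻¹ * (k⁻¹ * g * k) = w by rw [← hw, inv_mul_cancel_left]]
      refine Finset.mem_filter.mpr ⟨Finset.mem_product.mpr ⟨Finset.mem_univ _,
        Finset.mem_filter.mpr ⟨Finset.mem_univ _, hcm, hr⟩⟩, ?_⟩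
      show k * (x * w) * k⁻¹ = g
      rw [hw]
      group
    · intro c _ c' _ e
      exact Subtype.ext (mul_left_cancel (congrArg Prod.fst e))
    · rintro ⟨k, s⟩ hp
      obtain ⟨hp1, hp2⟩ := Finset.mem_filter.mp hp
      have e := hppt _ hp1
      rw [hp2, ← hk₀] at e
      dsimp only at e hp2
      have hc : k₀⁻¹ * k ∈ Subgroup.centralizer ({x} : Set G) := by
        refine Subgroup.mem_centralizer_singleton_iff.mpr ?_
        calc k₀⁻¹ * k * x = k₀⁻¹ * (k * x * k⁻¹) * k := by group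
          _ = x * (k₀⁻¹ * k) := by rw [← e]; group
      refine ⟨⟨_, hc⟩, Finset.mem_univ _, ?_⟩
      simp only [mul_inv_cancel_left, Prod.mk.injEq, true_and]
      rw [← hp2]
      group
  have hC : (Nat.card (Subgroup.centralizer ({x} : Set G)) : ℂ) ≠ 0 := Nat.cast_ne_zero.mpr Nat.card_pos.ne'
  have h1 : ∑ p ∈ Finset.univ ×ˢ S, F (p.1 * (x * p.2) * p.1⁻¹) =
      (Nat.card (Subgroup.centralizer ({x} : Set G)) : ℂ) * ∑ g : G with IsConj (ppt 2 g) x, F g := by
    rw [← Finset.sum_fiberwise_of_maps_to (t := Finset.univ.filter fun g : G => IsConj (ppt 2 g) x)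
      (g := fun p : G × G => p.1 * (x * p.2) * p.1⁻¹) (fun p hp => Finset.mem_filter.mpr ⟨Finset.mem_univ _, by
        rw [hppt p hp]; exact (isConj_iff.mpr ⟨p.1, rfl⟩ : IsConj x _).symm⟩), Finset.mul_sum]
    refine Finset.sum_congr rfl fun g hg => ?_
    rw [Finset.sum_congr rfl (g := fun _ => F g) (fun p hp => by rw [(Finset.mem_filter.mp hp).2]),
      Finset.sum_const, hfib g hg, nsmul_eq_mul]
  have h3 : ∑ p ∈ Finset.univ ×ˢ S, F (p.1 * (x * p.2) * p.1⁻¹) = (Nat.card G : ℂ) * ∑ s ∈ S, F (x * s) := by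
    rw [Finset.sum_product, Finset.sum_congr rfl (g := fun _ => ∑ s ∈ S, F (x * s))
      (fun k _ => Finset.sum_congr rfl fun s _ => hF (x * s) k), Finset.sum_const, Finset.card_univ,
      ← Nat.card_eq_fintype_card, nsmul_eq_mul]
  rw [h3] at h1
  rw [secAvg, ← hS, mul_left_comm, h1, inv_mul_cancel_left₀ hC]

open scoped Classical in
/-- The columns at two involution sections are orthogonal without conjugation. -/
theorem orth_involution (hM : IsPModular 2 M) {x u : G} (hx : ∃ k : ℕ, orderOf x = 2 ^ k) (hu : u * u = 1)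
    (hxu : ¬ IsConj x u) {s t : G} (hs : Commute x s) (hs' : ¬ 2 ∣ orderOf s) (ht : Commute u t)
    (ht' : ¬ 2 ∣ orderOf t) :
    ∑ χ : IrrCharacter G with χ ∈ principalBlock M G, (χ : G → ℂ) (u * t) * (χ : G → ℂ) (x * s) = 0 := by
  haveI : Fact (Nat.Prime 2) := ⟨Nat.prime_two⟩
  have huk : ∃ k : ℕ, orderOf u = 2 ^ k := by
    obtain ⟨j, -, hj⟩ := (Nat.dvd_prime_pow Nat.prime_two).mp
      (show orderOf u ∣ 2 ^ 1 from orderOf_dvd_of_pow_eq_one (by rw [pow_one, pow_two, hu]))
    exact ⟨j, hj⟩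
  have h := sum_block_column_orth hM (isPBlock_principalBlock (G := G) M) (g := x * s) (z := x)
    (h := u * t⁻¹) (w := u) ⟨s, rfl, hs, hx, hs'⟩ ⟨t⁻¹, rfl, ht.inv_right, huk, by rwa [orderOf_inv]⟩ hxu
  refine Eq.trans (Finset.sum_congr rfl fun χ _ => ?_) h
  rw [← char_inv (irr_isCharacter χ.2), mul_inv_rev, inv_inv, inv_eq_of_mul_eq_one_right hu, ← ht.eq]

/-- The regular character. -/
theorem isCharacter_regular (Q : Type u) [Group Q] [Fintype Q] [DecidableEq Q] :
    IsCharacter Q (fun x : Q => if x = 1 then (Nat.card Q : ℂ) else 0) := by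
  have hcl : IsClassFunction Q (fun x : Q => if x = 1 then (Nat.card Q : ℂ) else 0) := fun a k =>
    if_congr conj_eq_one_iff rfl rfl
  rw [classFun_expansion hcl]
  refine isCharacter_sum _ _ fun ψ _ => ?_
  obtain ⟨n, hn⟩ := charOne_eq_natCast (irr_isCharacter ψ.2)
  have e : classInner (fun x : Q => if x = 1 then (Nat.card Q : ℂ) else 0) (ψ : Q → ℂ) = (n : ℂ) := by
    rw [classInner, Finset.sum_eq_single (1 : Q) (fun x _ hx => by rw [if_neg hx, zero_mul])
      (fun h => absurd (Finset.mem_univ _) h), if_pos rfl, hn, Complex.conj_natCast,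
      inv_mul_cancel_left₀ (Nat.cast_ne_zero.mpr Nat.card_pos.ne')]
  rw [e, Nat.cast_smul_eq_nsmul]
  exact isCharacter_nsmul (irr_isCharacter ψ.2) n

variable {P : Sylow 2 G} {A B : Subgroup G}

theorem Planes.two_power (h : Planes P A B) {x : G} (hx : x ∈ (P : Subgroup G)) :
    ∃ k : ℕ, orderOf x = 2 ^ k := by
  haveI : Fact (Nat.Prime 2) := ⟨Nat.prime_two⟩
  obtain ⟨j, hj⟩ := IsPGroup.iff_orderOf.1 P.isPGroup' ⟨x, hx⟩
  exact ⟨j, by rwa [Subgroup.orderOf_mk] at hj⟩

/-- The four sections. -/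
theorem Planes.sections (h : Planes P A B) {a b : G} (ha : a ∈ A) (ha1 : a ≠ 1) (hb : b ∈ B) (hb1 : b ≠ 1)
    (g : G) :
    (ppt 2 g = 1 ∧ ¬ IsConj (ppt 2 g) a ∧ ¬ IsConj (ppt 2 g) b ∧ ¬ IsConj (ppt 2 g) (a * b)) ∨
    (ppt 2 g ≠ 1 ∧ IsConj (ppt 2 g) a ∧ ¬ IsConj (ppt 2 g) b ∧ ¬ IsConj (ppt 2 g) (a * b)) ∨
    (ppt 2 g ≠ 1 ∧ ¬ IsConj (ppt 2 g) a ∧ IsConj (ppt 2 g) b ∧ ¬ IsConj (ppt 2 g) (a * b)) ∨
    (ppt 2 g ≠ 1 ∧ ¬ IsConj (ppt 2 g) a ∧ ¬ IsConj (ppt 2 g) b ∧ IsConj (ppt 2 g) (a * b)) := by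
  haveI : Fact (Nat.Prime 2) := ⟨Nat.prime_two⟩
  obtain ⟨hab, haab, hbab, hab1⟩ := h.ne_mul ha ha1 hb hb1
  obtain ⟨i, hi⟩ := ppt_ppower (p := 2) Nat.prime_two g
  obtain ⟨Q, hQ⟩ := (IsPGroup.of_card (n := i) (by rw [Nat.card_zpowers, hi]) :
    IsPGroup 2 (Subgroup.zpowers (ppt 2 g))).exists_le_sylow
  obtain ⟨k, hk⟩ := MulAction.exists_smul_eq G Q P
  have hm : k * ppt 2 g * k⁻¹ ∈ (P : Subgroup G) := by
    rw [← hk]; exact ⟨_, hQ (Subgroup.mem_zpowers _), rfl⟩
  have hc : IsConj (ppt 2 g) (k * ppt 2 g * k⁻¹) := isConj_iff.mpr ⟨k, rfl⟩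
  rcases h.kind ha ha1 hb hb1 hm with e | e | e | e
  · refine Or.inl ?_
    have e1 : ppt 2 g = 1 := conj_eq_one_iff.mp e
    rw [e1]
    exact ⟨rfl, fun c => ha1 (isConj_one_right.mp c), fun c => hb1 (isConj_one_right.mp c),
      fun c => hab1 (isConj_one_right.mp c)⟩
  · refine Or.inr (Or.inl ⟨fun e1 => ?_, hc.trans e, fun c => hab ((hc.trans e).symm.trans c),
      fun c => haab ((hc.trans e).symm.trans c)⟩)
    exact ha1 (isConj_one_right.mp (e1 ▸ hc.trans e))
  · refine Or.inr (Or.inr (Or.inl ⟨fun e1 => ?_, fun c => hab (c.symm.trans (hc.trans e)), hc.trans e,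
      fun c => hbab ((hc.trans e).symm.trans c)⟩))
    exact hb1 (isConj_one_right.mp (e1 ▸ hc.trans e))
  · refine Or.inr (Or.inr (Or.inr ⟨fun e1 => ?_, fun c => haab (c.symm.trans (hc.trans e)),
      fun c => hbab (c.symm.trans (hc.trans e)), hc.trans e⟩))
    exact hab1 (isConj_one_right.mp (e1 ▸ hc.trans e))

open scoped Classical in
/-- The four sections add up. -/
theorem Planes.sum_four (h : Planes P A B) {a b : G} (ha : a ∈ A) (ha1 : a ≠ 1) (hb : b ∈ B) (hb1 : b ≠ 1)
    {F : G → ℂ} (hF : IsClassFunction G F) :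
    ∑ g : G, F g = (∑ g : G with ¬ 2 ∣ orderOf g, F g) +
      (Nat.card G : ℂ) * (secAvg a F + secAvg b F + secAvg (a * b) F) := by
  rw [mul_add, mul_add, ← section_sum (h.two_power (h.leA ha)) hF, ← section_sum (h.two_power (h.leB hb)) hF,
    ← section_sum (h.two_power (mul_mem (h.leA ha) (h.leB hb))) hF]
  simp only [Finset.sum_filter, ← Finset.sum_add_distrib]
  refine Finset.sum_congr rfl fun g _ => ?_
  simp only [← ppt_eq_one_iff Nat.prime_two g]
  rcases h.sections ha ha1 hb hb1 g with ⟨e1, e2, e3, e4⟩ | ⟨e1, e2, e3, e4⟩ | ⟨e1, e2, e3, e4⟩ |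
    ⟨e1, e2, e3, e4⟩
  · rw [if_pos e1, if_neg e2, if_neg e3, if_neg e4]; ring
  · rw [if_neg e1, if_pos e2, if_neg e3, if_neg e4]; ring
  · rw [if_neg e1, if_neg e2, if_pos e3, if_neg e4]; ring
  · rw [if_neg e1, if_neg e2, if_neg e3, if_pos e4]; ring

open scoped Classical in
/-- The generalized character `4·[2-part in B] - 1`. -/
theorem Planes.sections_int (h : Planes P A B) {a b : G} (ha : a ∈ A) (ha1 : a ≠ 1) (hb : b ∈ B) (hb1 : b ≠ 1)
    (χ ψ : IrrCharacter G) :
    ∃ m : ℤ, 4 * (secAvg a (fun g => (χ : G → ℂ) g * conj ((ψ : G → ℂ) g)) +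
      secAvg (a * b) (fun g => (χ : G → ℂ) g * conj ((ψ : G → ℂ) g))) = m := by
  haveI : Fact (Nat.Prime 2) := ⟨Nat.prime_two⟩
  set Θ : G → ℂ := fun g => if ∃ y ∈ B, IsConj (ppt 2 g) y then 3 else -1 with hΘ
  have hΘc : IsClassFunction G Θ := fun g k => by
    simp only [hΘ, ppt_conj Nat.prime_two]
    have hiff : (∃ y ∈ B, IsConj (k * ppt 2 g * k⁻¹) y) ↔ ∃ y ∈ B, IsConj (ppt 2 g) y :=
      ⟨fun ⟨y, hy, hc⟩ => ⟨y, hy, (isConj_iff.mpr ⟨k, rfl⟩ : IsConj (ppt 2 g) _).trans hc⟩,
        fun ⟨y, hy, hc⟩ => ⟨y, hy, (isConj_iff.mpr ⟨k, rfl⟩ : IsConj (ppt 2 g) _).symm.trans hc⟩⟩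
    by_cases hex : ∃ y ∈ B, IsConj (ppt 2 g) y
    · rw [if_pos hex, if_pos (hiff.mpr hex)]
    · rw [if_neg hex, if_neg fun hh => hex (hiff.mp hh)]
  set B' := B.subgroupOf (P : Subgroup G)
  haveI hB'n : B'.Normal := ⟨fun n hn g => by
    have e : g * n * g⁻¹ = n := Subtype.ext (by
      show (g : G) * n * (g : G)⁻¹ = n
      rw [h.comm g.2 n.2, mul_inv_cancel_right])
    rw [e]; exact hn⟩
  haveI : Fintype ((P : Subgroup G) ⧸ B') := Fintype.ofFinite _
  have hQ : Nat.card ((P : Subgroup G) ⧸ B') = 4 := by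
    have h1 := B'.card_mul_index
    rw [Nat.card_congr (Subgroup.subgroupOfEquivOfLe h.leB).toEquiv, h.cardB,
      show Nat.card (P : Subgroup G) = 16 from h.card_P] at h1
    rw [← Subgroup.index_eq_card]
    omega
  have hgen : IsGeneralizedCharacter G Θ := by
    refine brauer_characterization hΘc fun E ℓ hℓ hE => ?_
    obtain ⟨f, hf⟩ := exists_hom_ppt (P := P) E hℓ hE
    refine ⟨(fun x : (P : Subgroup G) ⧸ B' => if x = 1 then (Nat.card ((P : Subgroup G) ⧸ B') : ℂ) else 0) ∘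
      (QuotientGroup.mk' B').comp f, fun _ => 1, isCharacter_comp _ (isCharacter_regular _), isCharacter_one, ?_⟩
    funext e
    simp only [Pi.sub_apply, Function.comp_apply, MonoidHom.comp_apply, QuotientGroup.mk'_apply,
      QuotientGroup.eq_one_iff, hQ, hΘ]
    by_cases hB : ((f e : (P : Subgroup G)) : G) ∈ B
    · rw [if_pos ⟨_, hB, hf e⟩, if_pos (show f e ∈ B' from hB)]
      norm_num
    · rw [if_neg fun ⟨y, hy, hc⟩ => hB (h.fusB y hy _ (f e).2 (hc.symm.trans (hf e))),
        if_neg (show ¬ f e ∈ B' from hB)]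
      norm_num
  obtain ⟨θ₁, θ₂, h1, h2, hθ⟩ := hgen
  obtain ⟨m₁, hm₁⟩ := classInner_natCast (isCharacter_mul h1 (irr_isCharacter χ.2)) (irr_isCharacter ψ.2)
  obtain ⟨m₂, hm₂⟩ := classInner_natCast (isCharacter_mul h2 (irr_isCharacter χ.2)) (irr_isCharacter ψ.2)
  obtain ⟨m₃, hm₃⟩ := classInner_natCast (irr_isCharacter χ.2) (irr_isCharacter ψ.2)
  refine ⟨3 * (m₃ : ℤ) - ((m₁ : ℤ) - m₂), ?_⟩
  set F : G → ℂ := fun g => (χ : G → ℂ) g * conj ((ψ : G → ℂ) g) with hF
  have hFc : IsClassFunction G F := fun g k => by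
    simp only [hF, isClassFunction_character (irr_isCharacter χ.2) g k,
      isClassFunction_character (irr_isCharacter ψ.2) g k]
  have hΘsum : ∑ g : G, Θ g * F g = 3 * ∑ g : G, F g -
      4 * ((Nat.card G : ℂ) * secAvg a F + (Nat.card G : ℂ) * secAvg (a * b) F) := by
    rw [← section_sum (h.two_power (h.leA ha)) hFc,
      ← section_sum (h.two_power (mul_mem (h.leA ha) (h.leB hb))) hFc]
    simp only [Finset.sum_filter, Finset.mul_sum, ← Finset.sum_add_distrib, ← Finset.sum_sub_distrib]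
    refine Finset.sum_congr rfl fun g _ => ?_
    obtain ⟨-, -, hbab, -⟩ := h.ne_mul ha ha1 hb hb1
    rcases h.sections ha ha1 hb hb1 g with ⟨e1, e2, e3, e4⟩ | ⟨e1, e2, e3, e4⟩ | ⟨e1, e2, e3, e4⟩ |
      ⟨e1, e2, e3, e4⟩
    · rw [show Θ g = 3 from if_pos ⟨1, one_mem _, e1 ▸ IsConj.refl _⟩, if_neg e2, if_neg e4]
      ring
    · rw [show Θ g = -1 from if_neg ?_, if_pos e2, if_neg e4]
      · ring
      rintro ⟨y, hy, hc⟩
      have hmem := h.fusB y hy a (h.leA ha) (hc.symm.trans e2)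
      exact ha1 (h.eq_one_of_mem ha hmem)
    · rw [show Θ g = 3 from if_pos ⟨b, hb, e3⟩, if_neg e2, if_neg e4]
      ring
    · rw [show Θ g = -1 from if_neg ?_, if_neg e2, if_pos e4]
      · ring
      rintro ⟨y, hy, hc⟩
      have hmem := h.fusB y hy (a * b) (mul_mem (h.leA ha) (h.leB hb)) (hc.symm.trans e4)
      exact ha1 (h.eq_one_of_mem ha ((B.mul_mem_cancel_right hb).mp hmem))
  have e1 : classInner (θ₁ * (χ : G → ℂ)) (ψ : G → ℂ) - classInner (θ₂ * (χ : G → ℂ)) (ψ : G → ℂ) =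
      (Nat.card G : ℂ)⁻¹ * ∑ g : G, Θ g * F g := by
    rw [classInner, classInner, ← mul_sub, ← Finset.sum_sub_distrib]
    congr 1
    refine Finset.sum_congr rfl fun g _ => ?_
    rw [hθ, hF]
    simp only [Pi.mul_apply, Pi.sub_apply]
    ring
  have hG : (Nat.card G : ℂ) ≠ 0 := Nat.cast_ne_zero.mpr Nat.card_pos.ne'
  rw [hm₁, hm₂, hΘsum] at e1
  push_cast
  rw [e1, ← hm₃, classInner]
  field_simp
  ring

open scoped Classical in
/-- The section of a mixed element. -/
theorem Planes.mixed (h : Planes P A B) (hM : IsPModular 2 M) {a b : G} (ha : a ∈ A) (ha1 : a ≠ 1)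
    (hb : b ∈ B) (hb1 : b ≠ 1) :
    (∀ χ ∈ principalBlock M G, ∀ ψ ∈ principalBlock M G,
      secAvg (a * b) (fun g => (χ : G → ℂ) g * conj ((ψ : G → ℂ) g)) =
        (χ : G → ℂ) (a * b) * conj ((ψ : G → ℂ) (a * b)) / 16) ∧
    ∑ χ : IrrCharacter G with χ ∈ principalBlock M G,
      conj ((χ : G → ℂ) (a * b)) * (χ : G → ℂ) (a * b) = 16 := by
  haveI : Fact (Nat.Prime 2) := ⟨Nat.prime_two⟩
  haveI : Fintype (Subgroup.centralizer ({a * b} : Set G)) := Fintype.ofFinite _
  have hxP := mul_mem (h.leA ha) (h.leB hb)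
  have hnp := h.hnpc_mixed ha ha1 hb hb1
  have hn := nilp_section hM (h.two_power hxP) hnp
  have hPC : (P : Subgroup G) ≤ Subgroup.centralizer ({a * b} : Set G) := fun y hy =>
    Subgroup.mem_centralizer_singleton_iff.mpr (h.comm hy hxP)
  have hS : Nat.card (P.subtype hPC : Subgroup (Subgroup.centralizer ({a * b} : Set G))) = 16 :=
    (Nat.card_congr (Subgroup.subgroupOfEquivOfLe hPC).toEquiv).trans h.card_P
  refine ⟨fun χ hχ ψ hψ => ?_, ?_⟩
  · obtain ⟨K, hKn, hK, ⟨k, hk⟩, hreg⟩ := exists_complement_index hnp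
    have hK16 : K.index = 16 := (card_sylow_eq_index K hK hk (P.subtype hPC)).symm.trans hS
    rw [secAvg_eq_cent, Finset.sum_congr rfl (g := fun _ => (χ : G → ℂ) (a * b) * conj ((ψ : G → ℂ) (a * b)))
      (fun s hs => by
        have hs' := (Finset.mem_filter.mp hs).2
        rw [← Subgroup.orderOf_coe] at hs'
        rw [hn.1 χ hχ s (Subgroup.mem_centralizer_singleton_iff.mp s.2).symm hs',
          hn.1 ψ hψ s (Subgroup.mem_centralizer_singleton_iff.mp s.2).symm hs']),
      Finset.sum_const, nsmul_eq_mul]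
    have hc : (Finset.univ.filter fun s : Subgroup.centralizer ({a * b} : Set G) => ¬ 2 ∣ orderOf s).card =
        Nat.card K := by
      rw [Nat.card_eq_fintype_card (α := K), Fintype.card_subtype]
      congr 1
      ext s
      simp only [Finset.mem_filter, Finset.mem_univ, true_and]
      exact ⟨hreg s, fun hs h2 => hK (h2.trans (Subgroup.orderOf_mk s hs ▸ orderOf_dvd_natCard (⟨s, hs⟩ : K)))⟩
    rw [hc, ← K.card_mul_index, hK16]
    have : (Nat.card K : ℂ) ≠ 0 := Nat.cast_ne_zero.mpr Nat.card_pos.ne'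
    push_cast
    field_simp
  · rw [hn.2, ← (P.subtype hPC).card_eq_multiplicity, show Nat.card (P.subtype hPC) = 16 from hS]
    norm_num

/-- The local hypotheses at an involution of a plane. -/
theorem Planes.loc (h : Planes P A B) {a : G} (ha : a ∈ A) (ha1 : a ≠ 1)
    (hPC : (P : Subgroup G) ≤ Subgroup.centralizer ({a} : Set G)) :
    Loc (P.subtype hPC) (A.subgroupOf (Subgroup.centralizer ({a} : Set G)))
      (B.subgroupOf (Subgroup.centralizer ({a} : Set G))) := by
  have hnorm : ∀ n : Subgroup.centralizer ({a} : Set G),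
      n ∈ Subgroup.normalizer
        ((P.subtype hPC : Subgroup (Subgroup.centralizer ({a} : Set G))) : Set (Subgroup.centralizer ({a} : Set G))) →
      (n : G) ∈ Subgroup.normalizer ((P : Subgroup G) : Set G) := by
    intro n hn
    refine Subgroup.mem_normalizer_iff.mpr fun y => ?_
    constructor
    · intro hy
      exact (Subgroup.mem_normalizer_iff.mp hn ⟨y, hPC hy⟩).mp hy
    · intro hy
      have hyC : y ∈ Subgroup.centralizer ({a} : Set G) := by
        have := mul_mem (mul_mem (inv_mem n.2) (hPC hy)) n.2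
        simpa [mul_assoc] using this
      exact (Subgroup.mem_normalizer_iff.mp hn ⟨y, hyC⟩).mpr hy
  have hfix : ∀ n : Subgroup.centralizer ({a} : Set G), (n : G) * a * (n : G)⁻¹ = a := fun n =>
    mul_inv_eq_iff_eq_mul.mpr (Subgroup.mem_centralizer_singleton_iff.mp n.2)
  refine ⟨fun x hx => Subtype.ext (h.sq x hx), fun x hx => h.leA hx, fun x hx => h.leB hx, ?_, ?_, ?_, ?_, ?_,
    ?_, ?_⟩
  · exact (Nat.card_congr (Subgroup.subgroupOfEquivOfLe (h.leA.trans hPC)).toEquiv).trans h.cardA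
  · exact (Nat.card_congr (Subgroup.subgroupOfEquivOfLe (h.leB.trans hPC)).toEquiv).trans h.cardB
  · rw [Subgroup.eq_bot_iff_forall]
    rintro x ⟨hxA, hxB⟩
    exact Subtype.ext (h.eq_one_of_mem hxA hxB)
  · intro x hx
    obtain ⟨a', ha', b', hb', e⟩ := h.exists_factor (x := (x : G)) hx
    exact ⟨⟨a', hPC (h.leA ha')⟩, ha', ⟨b', hPC (h.leB hb')⟩, hb', Subtype.ext e⟩
  · intro n hn a' ha'
    exact Subtype.ext (h.centA n (hnorm n hn) a ha ha1 (hfix n) a' ha')
  · intro n hn b' hb'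
    exact h.swap.conj_mem (hnorm n hn) hb'
  · intro b hb hb1 b' hb' hb1'
    obtain ⟨n, hn, hnA, hnb⟩ := h.swap.transA hb (fun e => hb1 (Subtype.ext e)) hb'
      (fun e => hb1' (Subtype.ext e))
    refine ⟨⟨n, Subgroup.mem_centralizer_singleton_iff.mpr (mul_inv_eq_iff_eq_mul.mp (hnA a ha))⟩, ?_,
      Subtype.ext hnb⟩
    exact Subgroup.mem_normalizer_iff.mpr fun y => Subgroup.mem_normalizer_iff.mp hn y

open scoped Classical in
/-- The three integral columns at an involution of a plane. -/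
theorem Planes.column (h : Planes P A B) (hM : IsPModular 2 M) {a : G} (ha : a ∈ A) (ha1 : a ≠ 1) :
    blockRank 2 (principalBlock M (Subgroup.centralizer ({a} : Set G))) = 3 ∧
    ∃ y : Fin 3 → IrrCharacter G → ℤ,
      (∀ i j, ∑ χ : IrrCharacter G with χ ∈ principalBlock M G, y i χ * y j χ = if i = j then 16 else 0) ∧
      (∀ χ ∈ principalBlock M G, ∀ ψ ∈ principalBlock M G,
        secAvg a (fun g => (χ : G → ℂ) g * conj ((ψ : G → ℂ) g)) = ((∑ i, y i χ * y i ψ : ℤ) : ℂ) / 16) ∧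
      ∀ c : IrrCharacter G → ℂ, (∀ s : G, Commute a s → ¬ 2 ∣ orderOf s →
          ∑ χ : IrrCharacter G with χ ∈ principalBlock M G, c χ * (χ : G → ℂ) (a * s) = 0) →
        ∀ i, ∑ χ : IrrCharacter G with χ ∈ principalBlock M G, c χ * (y i χ : ℂ) = 0 := by
  haveI : Fact (Nat.Prime 2) := ⟨Nat.prime_two⟩
  haveI : Fintype (Subgroup.centralizer ({a} : Set G)) := Fintype.ofFinite _
  have hPC : (P : Subgroup G) ≤ Subgroup.centralizer ({a} : Set G) := fun x hx =>
    Subgroup.mem_centralizer_singleton_iff.mpr (h.comm hx (h.leA ha))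
  have hxk := h.two_power (h.leA ha)
  obtain ⟨hrank, g, hgs, hgg, hgi, hgx⟩ := (h.loc ha ha1 hPC).exists_frame hM
  refine ⟨hrank, ?_⟩
  set bC := principalBlock M (Subgroup.centralizer ({a} : Set G)) with hbC
  have hbCB : IsPBlock M bC := isPBlock_principalBlock M
  set nC : ℂ := (Nat.card (Subgroup.centralizer ({a} : Set G)) : ℂ)
  have hnC : nC ≠ 0 := Nat.cast_ne_zero.mpr Nat.card_pos.ne'
  -- the coefficients of the shifted character
  have hcint : ∀ (χ : IrrCharacter G) (ξ : IrrCharacter (Subgroup.centralizer ({a} : Set G))),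
      ∃ n : ℤ, classInner (secFun a (χ : G → ℂ)) (ξ : Subgroup.centralizer ({a} : Set G) → ℂ) = n := by
    intro χ ξ
    have hcent : ∀ c : Subgroup.centralizer ({a} : Set G),
        (⟨a, Subgroup.mem_centralizer_singleton_iff.mpr rfl⟩ : Subgroup.centralizer ({a} : Set G)) * c =
          c * ⟨a, Subgroup.mem_centralizer_singleton_iff.mpr rfl⟩ := fun c =>
      Subtype.ext (Subgroup.mem_centralizer_singleton_iff.mp c.2).symm
    choose ζ hζ1 hζ using fun η => exists_central_root hcent η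
    rw [MajorSub.secFun_eq (z := ζ) hζ χ, classInner_sum_left, Finset.sum_eq_single ξ
      (fun θ _ hne => by rw [classInner_smul_left, irrC_orth, if_neg hne, mul_zero])
      (fun hn => absurd (Finset.mem_univ _) hn), classInner_smul_left, irr_self ξ.2, mul_one]
    have hsq : ζ ξ ^ 2 = 1 := by
      have h2 : orderOf (⟨a, Subgroup.mem_centralizer_singleton_iff.mpr rfl⟩ :
          Subgroup.centralizer ({a} : Set G)) ∣ 2 :=
        orderOf_dvd_of_pow_eq_one (by rw [pow_two]; exact Subtype.ext (h.sq a (h.leA ha)))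
      obtain ⟨k, hk⟩ := h2
      rw [hk, pow_mul, hζ1 ξ, one_pow]
    rcases sq_eq_one_iff.1 hsq with e | e
    · exact ⟨(mRes a χ ξ : ℤ), by rw [e]; push_cast; ring⟩
    · exact ⟨-(mRes a χ ξ : ℤ), by rw [e]; push_cast; ring⟩
  let E : IrrCharacter G → Fin 3 → ℂ := fun χ j =>
    ∑ ξ : IrrCharacter (Subgroup.centralizer ({a} : Set G)) with ξ ∈ bC,
      classInner (secFun a (χ : G → ℂ)) (ξ : Subgroup.centralizer ({a} : Set G) → ℂ) *
        einner 2 (ξ : Subgroup.centralizer ({a} : Set G) → ℂ) (g j)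
  have hEint : ∀ χ j, ∃ n : ℤ, 8 * E χ j = n := by
    intro χ j
    have : ∀ ξ : IrrCharacter (Subgroup.centralizer ({a} : Set G)), ∃ n : ℤ, ξ ∈ bC →
        8 * (classInner (secFun a (χ : G → ℂ)) (ξ : Subgroup.centralizer ({a} : Set G) → ℂ) *
          einner 2 (ξ : Subgroup.centralizer ({a} : Set G) → ℂ) (g j)) = n := by
      intro ξ
      by_cases hξ : ξ ∈ bC
      · obtain ⟨n, hn⟩ := hcint χ ξ
        obtain ⟨n', hn'⟩ := hgi ξ hξ j
        exact ⟨n * n', fun _ => by rw [hn]; push_cast; rw [← hn']; ring⟩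
      · exact ⟨0, fun h => absurd h hξ⟩
    choose n hn using this
    refine ⟨∑ ξ : IrrCharacter (Subgroup.centralizer ({a} : Set G)) with ξ ∈ bC, n ξ, ?_⟩
    push_cast
    rw [Finset.mul_sum]
    exact Finset.sum_congr rfl fun ξ hξ => hn ξ (Finset.mem_filter.mp hξ).2
  choose y hy using fun (j : Fin 3) (χ : IrrCharacter G) => hEint χ j
  have hval : ∀ χ ∈ principalBlock M G, ∀ s : Subgroup.centralizer ({a} : Set G), ¬ 2 ∣ orderOf s →
      (χ : G → ℂ) (a * (s : G)) = 4 * ∑ j, E χ j * g j s := by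
    intro χ hχ s hs
    have h1 := secFun_eq_principal hM hxk χ hχ s hs
    rw [blockPart_eq] at h1
    refine Eq.trans h1 ?_
    simp only [E, Finset.sum_mul, Finset.mul_sum]
    rw [Finset.sum_comm]
    refine Finset.sum_congr rfl fun ξ hξ => ?_
    rw [hgx ξ (Finset.mem_filter.mp hξ).2 s hs, Finset.mul_sum, Finset.mul_sum]
    exact Finset.sum_congr rfl fun j _ => by ring
  have hproj : ∀ χ ∈ principalBlock M G, ∀ j,
      nC⁻¹ * ∑ s : Subgroup.centralizer ({a} : Set G) with ¬ 2 ∣ orderOf s,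
        (χ : G → ℂ) (a * (s : G)) * conj (g j s) = E χ j := by
    intro χ hχ j
    rw [Finset.sum_congr rfl (g := fun s => ∑ i, (4 * E χ i) * (g i s * conj (g j s))) (fun s hs => by
      rw [hval χ hχ s (Finset.mem_filter.mp hs).2, Finset.mul_sum, Finset.sum_mul]
      exact Finset.sum_congr rfl fun i _ => by ring), Finset.sum_comm, Finset.mul_sum,
      Finset.sum_congr rfl (g := fun i => (4 * E χ i) * einner 2 (g i) (g j)) (fun i _ => by
        rw [← Finset.mul_sum, einner_eq_sum]; ring)]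
    simp only [hgg, mul_ite, mul_zero]
    rw [Finset.sum_ite_eq', if_pos (Finset.mem_univ _)]
    ring
  refine ⟨y, fun i j => ?_, fun χ hχ ψ hψ => ?_, fun c hc i => ?_⟩
  · -- the norms
    let w : Fin 3 → Subgroup.centralizer ({a} : Set G) → ℂ := fun j s =>
      if 2 ∣ orderOf s then 0 else nC⁻¹ * conj (g j s)
    have hw : ∀ (j : Fin 3) (F : Subgroup.centralizer ({a} : Set G) → ℂ), ∑ s, w j s * F s =
        nC⁻¹ * ∑ s : Subgroup.centralizer ({a} : Set G) with ¬ 2 ∣ orderOf s, F s * conj (g j s) := by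
      intro j F
      rw [Finset.sum_filter, Finset.mul_sum]
      refine Finset.sum_congr rfl fun s _ => ?_
      simp only [w]
      split_ifs <;> ring
    have h2 := sum_section_functional₂ hM hxk (isPBlock_principalBlock (G := G) M) (w i) (w j)
      (fun s hs => if_pos hs) (fun s hs => if_pos hs)
    rw [principal_section_filter hM hxk, Finset.sum_singleton,
      Finset.sum_congr rfl (g := fun χ : IrrCharacter G => conj (E χ i) * E χ j) (fun χ hχ => by
        rw [hw, hw, hproj χ (Finset.mem_filter.mp hχ).2, hproj χ (Finset.mem_filter.mp hχ).2])] at h2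
    have hgj : ∀ k, ∀ s : Subgroup.centralizer ({a} : Set G), ¬ 2 ∣ orderOf s →
        g k s = ∑ ξ : IrrCharacter (Subgroup.centralizer ({a} : Set G)) with ξ ∈ bC,
          conj (einner 2 (ξ : Subgroup.centralizer ({a} : Set G) → ℂ) (g k)) *
            (ξ : Subgroup.centralizer ({a} : Set G) → ℂ) s := by
      intro k s hs
      have h3 := congrFun (blockPart_blockSpan hM hbCB hbCB (hgs k)) s
      rw [if_pos rfl, blockPart_eq] at h3
      refine h3.symm.trans (Finset.sum_congr rfl fun ξ _ => ?_)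
      congr 1
      rw [einner_conj, einner]
      congr 1
      funext x
      simp only [Pi.mul_apply]
      by_cases hx : 2 ∣ orderOf x
      · rw [blockSpan_sing (hgs k) hx, zero_mul]
      · rw [regInd_of_reg hx, mul_one]
    have hR : ∑ ξ : IrrCharacter (Subgroup.centralizer ({a} : Set G)) with ξ ∈ bC,
        conj (∑ s, w i s * (ξ : Subgroup.centralizer ({a} : Set G) → ℂ) s) *
          (∑ s, w j s * (ξ : Subgroup.centralizer ({a} : Set G) → ℂ) s) = einner 2 (g i) (g j) := by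
      rw [einner_eq_sum, Finset.sum_congr rfl (g := fun s : Subgroup.centralizer ({a} : Set G) =>
        ∑ ξ : IrrCharacter (Subgroup.centralizer ({a} : Set G)) with ξ ∈ bC,
          conj (einner 2 (ξ : Subgroup.centralizer ({a} : Set G) → ℂ) (g i)) *
            ((ξ : Subgroup.centralizer ({a} : Set G) → ℂ) s * conj (g j s))) (fun s hs => by
        rw [hgj i s (Finset.mem_filter.mp hs).2, Finset.sum_mul]
        exact Finset.sum_congr rfl fun ξ _ => by ring), Finset.sum_comm (s := Finset.filter (fun s => ¬ 2 ∣ orderOf s) _),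
        Finset.mul_sum]
      refine Finset.sum_congr rfl fun ξ _ => ?_
      rw [hw, hw, ← einner_eq_sum, ← Finset.mul_sum, einner_eq_sum (ξ : Subgroup.centralizer ({a} : Set G) → ℂ)]
      ring
    rw [hR, hgg] at h2
    have h4 : ((∑ χ : IrrCharacter G with χ ∈ principalBlock M G, y i χ * y j χ : ℤ) : ℂ) =
        ((if i = j then 16 else 0 : ℤ) : ℂ) := by
      push_cast
      rw [Finset.sum_congr rfl (g := fun χ : IrrCharacter G => 64 * (conj (E χ i) * E χ j)) (fun χ _ => by
        rw [← hy i χ, ← hy j χ, show conj (E χ i) = E χ i from ?_]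
        · ring
        · have e : E χ i = (y i χ : ℂ) / 8 := by rw [← hy i χ]; ring
          rw [e, map_div₀, map_intCast, map_ofNat]), ← Finset.mul_sum, h2]
      split_ifs <;> norm_num
    exact_mod_cast h4
  · -- the section
    rw [secAvg_eq_cent, Finset.sum_congr rfl
      (g := fun s => ∑ k, ∑ l, (16 * (E χ k * conj (E ψ l))) * (g k s * conj (g l s))) (fun s hs => by
        rw [hval χ hχ s (Finset.mem_filter.mp hs).2, hval ψ hψ s (Finset.mem_filter.mp hs).2,
          map_mul, map_ofNat, map_sum, Finset.mul_sum, Finset.mul_sum, Finset.sum_mul]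
        refine Finset.sum_congr rfl fun k _ => ?_
        rw [Finset.mul_sum]
        refine Finset.sum_congr rfl fun l _ => ?_
        rw [map_mul]
        ring), Finset.sum_comm, Finset.mul_sum]
    push_cast
    rw [Finset.sum_div]
    refine Finset.sum_congr rfl fun k _ => ?_
    rw [Finset.sum_comm, Finset.mul_sum,
      Finset.sum_congr rfl (g := fun l => (16 * (E χ k * conj (E ψ l))) * einner 2 (g k) (g l)) (fun l _ => by
        rw [← Finset.mul_sum, einner_eq_sum]; ring)]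
    simp only [hgg, mul_ite, mul_zero]
    rw [Finset.sum_ite_eq, if_pos (Finset.mem_univ _)]
    have e1 : E χ k = (y k χ : ℂ) / 8 := by rw [← hy k χ]; ring
    have e2 : E ψ k = (y k ψ : ℂ) / 8 := by rw [← hy k ψ]; ring
    rw [e1, e2, map_div₀, map_intCast, map_ofNat]
    ring
  · -- the orthogonality
    have h0 : ∑ χ : IrrCharacter G with χ ∈ principalBlock M G, c χ * E χ i = 0 := by
      rw [Finset.sum_congr rfl (g := fun χ : IrrCharacter G =>
        ∑ s : Subgroup.centralizer ({a} : Set G) with ¬ 2 ∣ orderOf s,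
          (c χ * (χ : G → ℂ) (a * (s : G))) * (nC⁻¹ * conj (g i s))) (fun χ hχ => by
        rw [← hproj χ (Finset.mem_filter.mp hχ).2 i, Finset.mul_sum, Finset.mul_sum]
        exact Finset.sum_congr rfl fun s _ => by ring), Finset.sum_comm]
      refine Finset.sum_eq_zero fun s hs => ?_
      rw [← Finset.sum_mul, hc s (Subgroup.mem_centralizer_singleton_iff.mp s.2).symm
        (by rw [Subgroup.orderOf_coe]; exact (Finset.mem_filter.mp hs).2), zero_mul]
    rw [Finset.sum_congr rfl (g := fun χ : IrrCharacter G => 8 * (c χ * E χ i)) (fun χ _ => by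
      rw [← hy i χ]; ring), ← Finset.mul_sum, h0, mul_zero]

open scoped Classical in
/-- The invariants of the principal block. -/
theorem Planes.invariants (h : Planes P A B) (hM : IsPModular 2 M) :
    Nat.card (principalBlock M G) = 16 ∧ blockRank 2 (principalBlock M G) = 9 := by
  haveI : Fact (Nat.Prime 2) := ⟨Nat.prime_two⟩
  haveI : Nontrivial A := Finite.one_lt_card_iff_nontrivial.mp (by rw [h.cardA]; norm_num)
  haveI : Nontrivial B := Finite.one_lt_card_iff_nontrivial.mp (by rw [h.cardB]; norm_num)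
  obtain ⟨⟨a, ha⟩, hane⟩ := exists_ne (1 : A)
  obtain ⟨⟨b, hb⟩, hbne⟩ := exists_ne (1 : B)
  have ha1 : a ≠ 1 := fun e => hane (Subtype.ext e)
  have hb1 : b ≠ 1 := fun e => hbne (Subtype.ext e)
  obtain ⟨hab, haab, hbab, hab1⟩ := h.ne_mul ha ha1 hb hb1
  have hxP := mul_mem (h.leA ha) (h.leB hb)
  have hcom : a * b = b * a := h.comm (h.leA ha) (h.leB hb)
  obtain ⟨hra, y, hyn, hys, hyo⟩ := h.column hM ha ha1
  obtain ⟨hrb, z, hzn, hzs, hzo⟩ := h.swap.column hM hb hb1
  obtain ⟨hms, hmn⟩ := h.mixed hM ha ha1 hb hb1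
  choose d hd using fun χ : IrrCharacter G =>
    char_involution_int (irr_isCharacter χ.2) (t := a * b) (by rw [pow_two]; exact h.sq _ hxP)
  -- orthogonality
  have horth : ∀ (x v : G), x ∈ (P : Subgroup G) → v ∈ (P : Subgroup G) → ¬ IsConj x v → ∀ s t : G,
      Commute x s → ¬ 2 ∣ orderOf s → Commute v t → ¬ 2 ∣ orderOf t →
      ∑ χ : IrrCharacter G with χ ∈ principalBlock M G, (χ : G → ℂ) (v * t) * (χ : G → ℂ) (x * s) = 0 :=
    fun x v hx hv hn s t => orth_involution hM (h.two_power hx) (h.sq v hv) hn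
  have hdy : ∀ i, ∑ χ : IrrCharacter G with χ ∈ principalBlock M G, (d χ : ℂ) * (y i χ : ℂ) = 0 :=
    hyo _ fun s hc hs => by
      have := horth a (a * b) (h.leA ha) hxP haab s 1 hc hs (Commute.one_right _) (by simp)
      simpa only [mul_one, hd] using this
  have hdz : ∀ i, ∑ χ : IrrCharacter G with χ ∈ principalBlock M G, (d χ : ℂ) * (z i χ : ℂ) = 0 :=
    hzo _ fun s hc hs => by
      have := horth b (a * b) (h.leB hb) hxP hbab s 1 hc hs (Commute.one_right _) (by simp)
      simpa only [mul_one, hd] using this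
  have hyz : ∀ i j, ∑ χ : IrrCharacter G with χ ∈ principalBlock M G, (y i χ : ℂ) * (z j χ : ℂ) = 0 := by
    intro i j
    rw [Finset.sum_congr rfl fun χ _ => mul_comm (y i χ : ℂ) (z j χ : ℂ)]
    refine hyo _ (fun s hc hs => ?_) i
    rw [Finset.sum_congr rfl fun χ _ => mul_comm (z j χ : ℂ) ((χ : G → ℂ) (a * s))]
    refine hzo _ (fun t hct ht => ?_) j
    exact horth b a (h.leB hb) (h.leA ha) (fun e => hab e.symm) t s hct ht hc hs
  -- the arguments of the combinatorial lemma
  set S := Finset.univ.filter fun χ : IrrCharacter G => χ ∈ principalBlock M G with hS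
  have hmem : ∀ χ : S, (χ : IrrCharacter G) ∈ principalBlock M G := fun χ => (Finset.mem_filter.mp χ.2).2
  have hcard : Nat.card (principalBlock M G) = Fintype.card S := by
    rw [Fintype.card_coe, Nat.card_eq_fintype_card, Fintype.card_subtype]
  have hnorm16 : ∑ χ ∈ S, d χ ^ 2 = 16 := by
    have h2 := hmn
    simp only [hd, map_intCast] at h2
    have h3 : ((∑ χ ∈ S, d χ ^ 2 : ℤ) : ℂ) = ((16 : ℤ) : ℂ) := by
      push_cast
      rw [← h2]
      exact Finset.sum_congr rfl fun χ _ => by ring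
    exact_mod_cast h3
  have hcong : ∀ {A' B' : Subgroup G}, Planes P A' B' → ∀ {u v : G}, u ∈ A' → u ≠ 1 → v ∈ B' → v ≠ 1 →
      u * v = a * b → ∀ w : Fin 3 → IrrCharacter G → ℤ, (∀ χ ∈ principalBlock M G, ∀ ψ ∈ principalBlock M G,
        secAvg u (fun g => (χ : G → ℂ) g * conj ((ψ : G → ℂ) g)) = ((∑ i, w i χ * w i ψ : ℤ) : ℂ) / 16) →
      ∀ χ ∈ principalBlock M G, ∀ ψ ∈ principalBlock M G, (4 : ℤ) ∣ d χ * d ψ + ∑ i, w i χ * w i ψ := by
    intro A' B' h' u v hu hu1 hv hv1 he w hw χ hχ ψ hψ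
    obtain ⟨m, hm⟩ := h'.sections_int hu hu1 hv hv1 χ ψ
    rw [hw χ hχ ψ hψ, he, hms χ hχ ψ hψ, hd, hd, map_intCast] at hm
    refine ⟨m, ?_⟩
    have h3 : ((d χ * d ψ + ∑ i, w i χ * w i ψ : ℤ) : ℂ) = ((4 * m : ℤ) : ℂ) := by
      push_cast at hm ⊢
      linear_combination 4 * hm
    exact_mod_cast h3
  have hd0 : ∀ χ ∈ principalBlock M G, d χ ≠ 0 := by
    intro χ hχ e
    have h1 := ((mem_block_iff (pmod_prime hM) (isPBlock_principalBlock M) (one_mem_principal hM) χ).mp hχ) (a * b)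
    simp only [centralChar, hd, e, Int.cast_zero, mul_zero, zero_div, sub_zero, mul_one, div_one] at h1
    have h2 := (memLI_natCast_iff hM _).mp h1
    exact P.not_dvd_index (h2.trans (Subgroup.index_dvd_of_le fun x hx =>
      Subgroup.mem_centralizer_singleton_iff.mpr (h.comm hx hxP)))
  have hfam : ∀ (w : Fin 3 → IrrCharacter G → ℤ),
      (∀ i j, ∑ χ ∈ S, w i χ * w j χ = if i = j then 16 else 0) →
      (∀ i, ∑ χ ∈ S, (d χ : ℂ) * (w i χ : ℂ) = 0) →
      (∀ χ ∈ principalBlock M G, ∀ ψ ∈ principalBlock M G, (4 : ℤ) ∣ d χ * d ψ + ∑ i, w i χ * w i ψ) →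
      Fam (fun χ : S => d χ) (fun i (χ : S) => w i χ) := by
    intro w h1 h2 h3
    refine ⟨fun i => ?_, fun i j hij => ?_, fun i => ?_, fun k l => h3 _ (hmem k) _ (hmem l)⟩
    · rw [Finset.sum_coe_sort S (fun χ => w i χ ^ 2)]
      simpa [pow_two] using h1 i i
    · rw [Finset.sum_coe_sort S (fun χ => w i χ * w j χ), h1, if_neg hij]
    · rw [Finset.sum_coe_sort S (fun χ => d χ * w i χ)]
      exact_mod_cast h2 i
  -- counting
  set X : Finset G := {1, a, b, a * b} with hX
  have hsum : Nat.card (principalBlock M G) = blockRank 2 (principalBlock M G) + 7 := by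
    have hXp : ∀ x ∈ X, ∃ k : ℕ, orderOf x = 2 ^ k := by
      intro x hx
      refine h.two_power ?_
      simp only [hX, Finset.mem_insert, Finset.mem_singleton] at hx
      rcases hx with rfl | rfl | rfl | rfl
      exacts [one_mem _, h.leA ha, h.leB hb, hxP]
    have hrep : ∀ g : G, (∃ k : ℕ, orderOf g = 2 ^ k) → ∃! x, x ∈ X ∧ IsConj g x := by
      intro g hg
      have hp := ppt_of_ppower Nat.prime_two hg
      simp only [hX, Finset.mem_insert, Finset.mem_singleton]
      rcases h.sections ha ha1 hb hb1 g with ⟨e1, e2, e3, e4⟩ | ⟨e1, e2, e3, e4⟩ | ⟨e1, e2, e3, e4⟩ |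
        ⟨e1, e2, e3, e4⟩ <;> rw [hp] at e1 e2 e3 e4
      · exact ⟨1, ⟨Or.inl rfl, e1 ▸ IsConj.refl _⟩, by rintro y ⟨rfl | rfl | rfl | rfl, hy⟩ <;> tauto⟩
      · exact ⟨a, ⟨Or.inr (Or.inl rfl), e2⟩, by
          rintro y ⟨rfl | rfl | rfl | rfl, hy⟩
          · exact absurd (isConj_one_left.mp hy) e1
          all_goals tauto⟩
      · exact ⟨b, ⟨Or.inr (Or.inr (Or.inl rfl)), e3⟩, by
          rintro y ⟨rfl | rfl | rfl | rfl, hy⟩
          · exact absurd (isConj_one_left.mp hy) e1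
          all_goals tauto⟩
      · exact ⟨a * b, ⟨Or.inr (Or.inr (Or.inr rfl)), e4⟩, by
          rintro y ⟨rfl | rfl | rfl | rfl, hy⟩
          · exact absurd (isConj_one_left.mp hy) e1
          all_goals tauto⟩
    rw [card_principal_eq_sum hM X hXp hrep, hX,
      Finset.sum_insert (by simp [Ne.symm ha1, Ne.symm hb1, Ne.symm hab1]),
      Finset.sum_insert (by
        simp only [Finset.mem_insert, Finset.mem_singleton, not_or]
        exact ⟨fun e => hab (e ▸ IsConj.refl _), fun e => haab (by rw [← e])⟩),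
      Finset.sum_pair (fun e => hbab (by rw [← e])), blockRank_principal_centralizer_one hM, hra, hrb]
    haveI : Fintype (Subgroup.centralizer ({a * b} : Set G)) := Fintype.ofFinite _
    rw [(blockRank_principal_eq_one_iff hM).mpr (h.hnpc_mixed ha ha1 hb hb1)]
    omega
  have hl : 2 ≤ blockRank 2 (principalBlock M G) := by
    have h1 := one_le_blockRank_principal (G := G) hM
    have hn : ¬ HasNormalPComplement 2 G := fun hG => by
      obtain ⟨c, hc, -, hcB⟩ := h.moveB
      exact hcB b hb hb1 (eq_of_hnpc hG (fun x hx y hy => h.comm hx hy) (h.leB hb)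
        ((Subgroup.mem_normalizer_iff.mp hc b).mp (h.leB hb)))
    have h2 := mt (blockRank_principal_eq_one_iff hM).mp hn
    omega
  have hfy := hfam y hyn hdy (hcong h ha ha1 hb hb1 rfl y hys)
  have hfz := hfam z hzn hdz (hcong h.swap hb hb1 ha ha1 hcom.symm z hzs)
  have h16 := card_eq_sixteen hfy hfz (fun χ => hd0 _ (hmem χ))
    (by rw [Finset.sum_coe_sort S (fun χ => d χ ^ 2)]; exact hnorm16)
    (fun i j => by
      rw [Finset.sum_coe_sort S (fun χ => y i χ * z j χ)]
      exact_mod_cast hyz i j)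
    (fun χ => by
      obtain ⟨χ, hχS⟩ := χ
      have hχ : χ ∈ principalBlock M G := (Finset.mem_filter.mp hχS).2
      set F : G → ℂ := fun g => (χ : G → ℂ) g * conj ((χ : G → ℂ) g) with hF
      have hFc : IsClassFunction G F := fun g k => by
        simp only [hF, isClassFunction_character (irr_isCharacter χ.2) g k]
      have h1 : classInner (χ : G → ℂ) (χ : G → ℂ) = 1 := irr_self χ.2
      rw [classInner, show ∑ g : G, (χ : G → ℂ) g * conj ((χ : G → ℂ) g) = ∑ g : G, F g from rfl,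
        h.sum_four ha ha1 hb hb1 hFc, mul_add, inv_mul_cancel_left₀ (Nat.cast_ne_zero.mpr Nat.card_pos.ne'),
        show (Nat.card G : ℂ)⁻¹ * ∑ g : G with ¬ 2 ∣ orderOf g, F g =
          einner 2 (χ : G → ℂ) (χ : G → ℂ) from (einner_eq_sum _ _).symm,
        hys χ hχ χ hχ, hzs χ hχ χ hχ, hms χ hχ χ hχ, hd, map_intCast] at h1
      have h2 := zI_spec (p := 2) Nat.prime_two χ χ
      have hν : (Nat.card G).factorization 2 = 4 := by
        have := P.card_eq_multiplicity
        rw [show Nat.card P = 2 ^ 4 from h.card_P.trans (by norm_num)] at this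
        exact (Nat.pow_right_injective le_rfl this).symm
      rw [hν] at h2
      have h3 : ((d χ ^ 2 + ∑ i, y i χ ^ 2 + ∑ i, z i χ ^ 2 : ℤ) : ℂ) = ((16 - zI 2 χ χ : ℤ) : ℂ) := by
        push_cast at h1 h2 ⊢
        simp only [pow_two] at h1 ⊢
        linear_combination 16 * h1 + h2
      have h4 := zI_self_pos (p := 2) Nat.prime_two χ
      have h5 : d χ ^ 2 + ∑ i, y i χ ^ 2 + ∑ i, z i χ ^ 2 = 16 - zI 2 χ χ := by exact_mod_cast h3
      dsimp only
      omega)
    (by rw [← hcard]; omega)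
  omega

end Cfsg.Agent.Char.SixteenNine
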