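import Cfsg.Agent.Lib.Fusion.BurnsideFusion
import Cfsg.Agent.Lib.Fusion.NPC

/-!
# Elementary abelian Sylow 2-subgroups of order sixteen with nine-fold automizer
-/

set_option autoImplicit false
set_option linter.unusedSectionVars false
set_option linter.style.haveILetI false

namespace Cfsg.Agent.Char.SixteenNine

open Cfsg

universe u

variable {G : Type u} [Group G] [Finite G]

/-- Two complementary planes of a Sylow subgroup of order sixteen, each moved by an element fixing the other. -/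
structure Planes (P : Sylow 2 G) (A B : Subgroup G) : Prop where
  card_P : Nat.card P = 16
  sq : ∀ x ∈ (P : Subgroup G), x * x = 1
  leA : A ≤ (P : Subgroup G)
  leB : B ≤ (P : Subgroup G)
  cardA : Nat.card A = 4
  cardB : Nat.card B = 4
  disj : A ⊓ B = ⊥
  fusA : ∀ x ∈ A, ∀ y ∈ (P : Subgroup G), IsConj x y → y ∈ A
  fusB : ∀ x ∈ B, ∀ y ∈ (P : Subgroup G), IsConj x y → y ∈ B
  moveB : ∃ c ∈ Subgroup.normalizer ((P : Subgroup G) : Set G),
    (∀ a ∈ A, c * a * c⁻¹ = a) ∧ ∀ b ∈ B, b ≠ 1 → c * b * c⁻¹ ≠ b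
  moveA : ∃ c ∈ Subgroup.normalizer ((P : Subgroup G) : Set G),
    (∀ b ∈ B, c * b * c⁻¹ = b) ∧ ∀ a ∈ A, a ≠ 1 → c * a * c⁻¹ ≠ a
  centA : ∀ n ∈ Subgroup.normalizer ((P : Subgroup G) : Set G), ∀ a ∈ A, a ≠ 1 → n * a * n⁻¹ = a →
    ∀ a' ∈ A, n * a' * n⁻¹ = a'
  centB : ∀ n ∈ Subgroup.normalizer ((P : Subgroup G) : Set G), ∀ b ∈ B, b ≠ 1 → n * b * n⁻¹ = b →
    ∀ b' ∈ B, n * b' * n⁻¹ = b'

variable {P : Sylow 2 G} {A B : Subgroup G}

theorem Planes.swap (h : Planes P A B) : Planes P B A :=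
  ⟨h.card_P, h.sq, h.leB, h.leA, h.cardB, h.cardA, inf_comm A B ▸ h.disj, h.fusB, h.fusA, h.moveA, h.moveB,
    h.centB, h.centA⟩

theorem Planes.comm (h : Planes P A B) {x y : G} (hx : x ∈ (P : Subgroup G)) (hy : y ∈ (P : Subgroup G)) :
    x * y = y * x := by
  have h1 := h.sq x hx
  have h2 := h.sq y hy
  have h3 := h.sq _ (mul_mem hx hy)
  calc x * y = (x * y)⁻¹ := (inv_eq_of_mul_eq_one_right h3).symm
    _ = y⁻¹ * x⁻¹ := mul_inv_rev x y
    _ = y * x := by rw [inv_eq_of_mul_eq_one_right h1, inv_eq_of_mul_eq_one_right h2]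

theorem Planes.eq_one_of_mem (h : Planes P A B) {x : G} (hA : x ∈ A) (hB : x ∈ B) : x = 1 :=
  Subgroup.mem_bot.mp (h.disj ▸ (⟨hA, hB⟩ : x ∈ A ⊓ B))

theorem Planes.factor_unique (h : Planes P A B) {a a' b b' : G} (ha : a ∈ A) (ha' : a' ∈ A) (hb : b ∈ B)
    (hb' : b' ∈ B) (e : a * b = a' * b') : a = a' ∧ b = b' := by
  have e1 : a'⁻¹ * a = b' * b⁻¹ := by
    rw [inv_mul_eq_iff_eq_mul, ← mul_assoc, ← e, mul_inv_cancel_right]
  have h1 := h.eq_one_of_mem (mul_mem (inv_mem ha') ha) (e1 ▸ mul_mem hb' (inv_mem hb))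
  exact ⟨(inv_mul_eq_one.mp h1).symm, (mul_inv_eq_one.mp (e1 ▸ h1)).symm⟩

theorem Planes.exists_factor (h : Planes P A B) {x : G} (hx : x ∈ (P : Subgroup G)) :
    ∃ a ∈ A, ∃ b ∈ B, a * b = x := by
  classical
  let f : A × B → (P : Subgroup G) := fun p => ⟨p.1 * p.2, mul_mem (h.leA p.1.2) (h.leB p.2.2)⟩
  have hf : Function.Injective f := fun p q e => by
    obtain ⟨e1, e2⟩ := h.factor_unique p.1.2 q.1.2 p.2.2 q.2.2 (congrArg Subtype.val e)
    exact Prod.ext (Subtype.ext e1) (Subtype.ext e2)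
  have hb := (Nat.bijective_iff_injective_and_card f).mpr ⟨hf, by
    rw [Nat.card_prod, h.cardA, h.cardB]; exact h.card_P.symm⟩
  obtain ⟨p, hp⟩ := hb.2 ⟨x, hx⟩
  exact ⟨p.1, p.1.2, p.2, p.2.2, congrArg Subtype.val hp⟩

theorem Planes.conj_mem (h : Planes P A B) {n a : G}
    (hn : n ∈ Subgroup.normalizer ((P : Subgroup G) : Set G)) (ha : a ∈ A) : n * a * n⁻¹ ∈ A :=
  h.fusA a ha _ ((Subgroup.mem_normalizer_iff.mp hn a).mp (h.leA ha)) (isConj_iff.mpr ⟨n, rfl⟩)

/-- The involutions of a plane are conjugate by elements centralising the other plane. -/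
theorem Planes.transA (h : Planes P A B) {a a' : G} (ha : a ∈ A) (ha1 : a ≠ 1) (ha' : a' ∈ A) (ha1' : a' ≠ 1) :
    ∃ n ∈ Subgroup.normalizer ((P : Subgroup G) : Set G), (∀ b ∈ B, n * b * n⁻¹ = b) ∧ n * a * n⁻¹ = a' := by
  classical
  obtain ⟨c, hc, hcB, hcA⟩ := h.moveA
  set S := {x : A // x ≠ 1}
  have hS : Nat.card S = 3 := by
    haveI := Fintype.ofFinite A
    rw [Nat.card_eq_fintype_card, Fintype.card_subtype_compl, Fintype.card_subtype_eq,
      ← Nat.card_eq_fintype_card, h.cardA]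
  let σ : S → S := fun x => ⟨⟨c * x.1 * c⁻¹, h.conj_mem hc x.1.2⟩, fun e => x.2 (Subtype.ext (by
    have := congrArg Subtype.val e
    exact conj_eq_one_iff.mp this))⟩
  have hσ : Function.Injective σ := fun x y e => Subtype.ext (Subtype.ext (by
    have := congrArg (fun z : S => (z.1 : G)) e
    simpa [σ] using this))
  have hσf : ∀ x, σ x ≠ x := fun x e => hcA _ x.1.2 (fun e1 => x.2 (Subtype.ext e1))
    (congrArg (fun z : S => (z.1 : G)) e)
  set x : S := ⟨⟨a, ha⟩, fun e => ha1 (congrArg Subtype.val e)⟩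
  set y : S := ⟨⟨a', ha'⟩, fun e => ha1' (congrArg Subtype.val e)⟩
  haveI := Fintype.ofFinite S
  have hcases : y = x ∨ y = σ x ∨ y = σ (σ x) := by
    by_contra hno
    push Not at hno
    obtain ⟨n1, n2, n3⟩ := hno
    by_cases h2 : σ (σ x) = x
    · have h4 : σ y = x ∨ σ y = σ x ∨ σ y = y := by
        by_contra hno'
        push Not at hno'
        obtain ⟨m1, m2, m3⟩ := hno'
        have := Finset.card_le_univ ({x, σ x, y, σ y} : Finset S)
        rw [← Nat.card_eq_fintype_card, hS, Finset.card_insert_of_notMem (by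
          simp [(hσf x).symm, Ne.symm n1, Ne.symm m1]), Finset.card_insert_of_notMem (by
          simp [Ne.symm n2, Ne.symm m2]), Finset.card_pair (Ne.symm m3)] at this
        omega
      rcases h4 with e | e | e
      · exact n2 (hσ (e.trans h2.symm))
      · exact n1 (hσ e)
      · exact hσf y e
    · have := Finset.card_le_univ ({x, σ x, σ (σ x), y} : Finset S)
      rw [← Nat.card_eq_fintype_card, hS, Finset.card_insert_of_notMem (by
        simp [(hσf x).symm, Ne.symm h2, Ne.symm n1]), Finset.card_insert_of_notMem (by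
        simp [(hσf (σ x)).symm, Ne.symm n2]), Finset.card_pair (Ne.symm n3)] at this
      omega
  rcases hcases with e | e | e
  · refine ⟨1, one_mem _, fun b _ => by simp, ?_⟩
    have := congrArg (fun z : S => (z.1 : G)) e
    simpa [x, y] using this.symm
  · exact ⟨c, hc, hcB, (congrArg (fun z : S => (z.1 : G)) e).symm⟩
  · refine ⟨c * c, mul_mem hc hc, fun b hb => ?_, ?_⟩
    · rw [mul_inv_rev, show c * c * b * (c⁻¹ * c⁻¹) = c * (c * b * c⁻¹) * c⁻¹ by group, hcB b hb, hcB b hb]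
    · rw [mul_inv_rev, show c * c * a * (c⁻¹ * c⁻¹) = c * (c * a * c⁻¹) * c⁻¹ by group]
      exact (congrArg (fun z : S => (z.1 : G)) e).symm

theorem Planes.isConj_A (h : Planes P A B) {a a' : G} (ha : a ∈ A) (ha1 : a ≠ 1) (ha' : a' ∈ A)
    (ha1' : a' ≠ 1) : IsConj a a' := by
  obtain ⟨n, -, -, hn⟩ := h.transA ha ha1 ha' ha1'
  exact isConj_iff.mpr ⟨n, hn⟩

theorem Planes.isConj_mul (h : Planes P A B) {a a' b b' : G} (ha : a ∈ A) (ha1 : a ≠ 1) (ha' : a' ∈ A)
    (ha1' : a' ≠ 1) (hb : b ∈ B) (hb1 : b ≠ 1) (hb' : b' ∈ B) (hb1' : b' ≠ 1) :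
    IsConj (a * b) (a' * b') := by
  obtain ⟨n, -, hnB, hna⟩ := h.transA ha ha1 ha' ha1'
  obtain ⟨m, -, hmA, hmb⟩ := h.swap.transA hb hb1 hb' hb1'
  refine isConj_iff.mpr ⟨m * n, ?_⟩
  calc m * n * (a * b) * (m * n)⁻¹ = m * ((n * a * n⁻¹) * (n * b * n⁻¹)) * m⁻¹ := by group
    _ = (m * a' * m⁻¹) * (m * b * m⁻¹) := by rw [hna, hnB b hb]; group
    _ = a' * b' := by rw [hmA a' ha', hmb]

/-- The four kinds of elements of the Sylow subgroup. -/
theorem Planes.kind (h : Planes P A B) {a b : G} (ha : a ∈ A) (ha1 : a ≠ 1) (hb : b ∈ B) (hb1 : b ≠ 1)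
    {x : G} (hx : x ∈ (P : Subgroup G)) :
    x = 1 ∨ IsConj x a ∨ IsConj x b ∨ IsConj x (a * b) := by
  obtain ⟨a', ha', b', hb', rfl⟩ := h.exists_factor hx
  by_cases h1 : a' = 1 <;> by_cases h2 : b' = 1
  · exact Or.inl (by simp [h1, h2])
  · exact Or.inr (Or.inr (Or.inl (by rw [h1, one_mul]; exact h.swap.isConj_A hb' h2 hb hb1)))
  · exact Or.inr (Or.inl (by rw [h2, mul_one]; exact h.isConj_A ha' h1 ha ha1))
  · exact Or.inr (Or.inr (Or.inr (h.isConj_mul ha' h1 ha ha1 hb' h2 hb hb1)))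

theorem Planes.ne_mul (h : Planes P A B) {a b : G} (ha : a ∈ A) (ha1 : a ≠ 1) (hb : b ∈ B) (hb1 : b ≠ 1) :
    ¬ IsConj a b ∧ ¬ IsConj a (a * b) ∧ ¬ IsConj b (a * b) ∧ a * b ≠ 1 := by
  refine ⟨fun e => hb1 (h.eq_one_of_mem (h.fusA a ha b (h.leB hb) e) hb), fun e => hb1 ?_, fun e => ha1 ?_,
    fun e => ha1 ?_⟩
  · have := h.fusA a ha _ (mul_mem (h.leA ha) (h.leB hb)) e
    exact h.eq_one_of_mem ((A.mul_mem_cancel_left ha).mp this) hb
  · have := h.fusB b hb _ (mul_mem (h.leA ha) (h.leB hb)) e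
    exact h.eq_one_of_mem ha ((B.mul_mem_cancel_right hb).mp this)
  · exact (h.factor_unique ha (one_mem _) hb (one_mem _) (by rw [e, one_mul])).1

/-- The centraliser of a mixed element is nilpotent at two. -/
theorem Planes.hnpc_mixed (h : Planes P A B) {a b : G} (ha : a ∈ A) (ha1 : a ≠ 1) (hb : b ∈ B) (hb1 : b ≠ 1) :
    HasNormalPComplement 2 (Subgroup.centralizer ({a * b} : Set G)) := by
  haveI : Fact (Nat.Prime 2) := ⟨Nat.prime_two⟩
  have hxP := mul_mem (h.leA ha) (h.leB hb)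
  have hPC : (P : Subgroup G) ≤ Subgroup.centralizer ({a * b} : Set G) := fun y hy =>
    Subgroup.mem_centralizer_singleton_iff.mpr (h.comm hy hxP)
  refine Fusion.hnpc_of_normalizer_le_centralizer (P.subtype hPC) fun n hn => ?_
  have hnN : (n : G) ∈ Subgroup.normalizer ((P : Subgroup G) : Set G) := by
    refine Subgroup.mem_normalizer_iff.mpr fun y => ?_
    constructor
    · intro hy
      exact (Subgroup.mem_normalizer_iff.mp hn ⟨y, hPC hy⟩).mp hy
    · intro hy
      have hyC : y ∈ Subgroup.centralizer ({a * b} : Set G) := by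
        have := mul_mem (mul_mem (inv_mem n.2) (hPC hy)) n.2
        simpa [mul_assoc] using this
      exact (Subgroup.mem_normalizer_iff.mp hn ⟨y, hyC⟩).mpr hy
  have hx : (n : G) * (a * b) * (n : G)⁻¹ = a * b := by
    rw [Subgroup.mem_centralizer_singleton_iff.mp n.2, mul_inv_cancel_right]
  obtain ⟨e1, e2⟩ := h.factor_unique (h.conj_mem hnN ha) ha (h.swap.conj_mem hnN hb) hb
    (show (n : G) * a * (n : G)⁻¹ * ((n : G) * b * (n : G)⁻¹) = a * b from Eq.trans (by group) hx)
  refine Subgroup.mem_centralizer_iff.mpr fun w hw => Subtype.ext ?_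
  obtain ⟨a', ha', b', hb', e⟩ := h.exists_factor (show (w : G) ∈ (P : Subgroup G) from hw)
  rw [Subgroup.coe_mul, Subgroup.coe_mul, ← e]
  have f1 := h.centA n hnN a ha ha1 e1 a' ha'
  have f2 := h.centB n hnN b hb hb1 e2 b' hb'
  rw [mul_inv_eq_iff_eq_mul] at f1 f2
  rw [← mul_assoc, f1, mul_assoc, mul_assoc, f2]

/-- The planes come from an automizer of order nine. -/
theorem exists_planes (P : Sylow 2 G) (hcard : Nat.card P = 16) (hel : ∀ x : P, x ^ 2 = 1)
    (he : (Subgroup.centralizer ((P : Subgroup G) : Set G)).relIndex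
      (Subgroup.normalizer ((P : Subgroup G) : Set G)) = 9) :
    ∃ A B : Subgroup G, Planes P A B := by
  classical
  haveI : Fact (Nat.Prime 3) := ⟨Nat.prime_three⟩
  haveI : Fact (Nat.Prime 2) := ⟨Nat.prime_two⟩
  have hsq : ∀ x ∈ (P : Subgroup G), x * x = 1 := fun x hx => by
    have := congrArg Subtype.val (hel ⟨x, hx⟩)
    rw [pow_two] at this
    exact this
  set N := Subgroup.normalizer ((P : Subgroup G) : Set G)
  set ρ : N →* MulAut (P : Subgroup G) := (P : Subgroup G).normalizerMonoidHom with hρdef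
  have hρ : ∀ (n : N) (x : (P : Subgroup G)), ((ρ n x : (P : Subgroup G)) : G) = (n : G) * x * (n : G)⁻¹ :=
    fun n x => rfl
  set R := ρ.range
  have hR : Nat.card R = 9 := by
    rw [← Subgroup.index_ker, Subgroup.normalizerMonoidHom_ker]
    exact he
  have hRp : IsPGroup 3 R := IsPGroup.of_card (n := 2) (by rw [hR]; norm_num)
  haveI hRc : IsMulCommutative R := IsPGroup.isMulCommutative_of_card_eq_prime_sq (p := 3) (by rw [hR]; norm_num)
  haveI := Fintype.ofFinite R
  haveI := Fintype.ofFinite (P : Subgroup G)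
  -- fixed subgroups
  let F : R → Subgroup (P : Subgroup G) := fun r =>
    ((r : MulAut (P : Subgroup G)).toMonoidHom).eqLocus (MonoidHom.id _)
  have memF : ∀ {r : R} {x : (P : Subgroup G)}, x ∈ F r ↔ (r : MulAut (P : Subgroup G)) x = x := Iff.rfl
  have hF16 : ∀ r : R, r ≠ 1 → Nat.card (F r) = 1 ∨ Nat.card (F r) = 4 := by
    intro r hr
    have hd : Nat.card (F r) ∣ 2 ^ 4 := by
      have := Subgroup.card_subgroup_dvd_card (F r)
      rwa [show Nat.card (P : Subgroup G) = 2 ^ 4 by rw [show (2 : ℕ) ^ 4 = 16 by norm_num]; exact hcard] at this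
    obtain ⟨i, hi, hci⟩ := (Nat.dvd_prime_pow Nat.prime_two).mp hd
    have hne : Nat.card (F r) ≠ 16 := fun h16 => hr (Subtype.ext (MulEquiv.ext fun x => by
      have htop : F r = ⊤ := Subgroup.eq_top_of_card_eq _ (h16.trans hcard.symm)
      exact memF.mp (htop ▸ Subgroup.mem_top x)))
    have hmod : Nat.card (P : Subgroup G) ≡ Nat.card (MulAction.fixedPoints (Subgroup.zpowers r) (P : Subgroup G)) [MOD 3] :=
      (hRp.to_subgroup _).card_modEq_card_fixedPoints _
    have hfix : MulAction.fixedPoints (Subgroup.zpowers r) (P : Subgroup G) = (F r : Set (P : Subgroup G)) := by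
      ext x
      refine ⟨fun hx => hx ⟨r, Subgroup.mem_zpowers r⟩, fun hx => ?_⟩
      rintro ⟨w, hw⟩
      have hst : Subgroup.zpowers r ≤ MulAction.stabilizer R x :=
        Subgroup.zpowers_le.mpr (show r • x = x from hx)
      exact hst hw
    rw [hfix, Nat.card_coe_set_eq, ← Nat.card_coe_set_eq] at hmod
    rw [show Nat.card (P : Subgroup G) = 16 from hcard] at hmod
    change 16 ≡ Nat.card (F r) [MOD 3] at hmod
    rw [hci] at hmod hne ⊢
    unfold Nat.ModEq at hmod
    interval_cases i <;> simp at hmod hne ⊢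
  set S : Finset R := Finset.univ.filter fun r => r ≠ 1 ∧ Nat.card (F r) = 4 with hS
  have hsum : 9 ∣ 24 + 3 * S.card := by
    have hb := MulAction.sum_card_fixedBy_eq_card_orbits_mul_card_group R (P : Subgroup G)
    rw [← Nat.card_eq_fintype_card (α := R), hR] at hb
    have e : ∀ r : R, Fintype.card (MulAction.fixedBy (P : Subgroup G) r) =
        1 + 3 * (if r ∈ S then 1 else 0) + 15 * (if r = 1 then 1 else 0) := by
      intro r
      have e1 : Fintype.card (MulAction.fixedBy (P : Subgroup G) r) = Nat.card (F r) := by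
        rw [← Nat.card_eq_fintype_card]; rfl
      rw [e1]
      by_cases hr : r = 1
      · subst hr
        have : F 1 = ⊤ := eq_top_iff.mpr fun x _ => memF.mpr rfl
        rw [this, Subgroup.card_top, if_neg (by simp [hS]), if_pos rfl]
        exact hcard
      · rw [if_neg hr]
        rcases hF16 r hr with e | e
        · rw [if_neg (fun h => by have := (Finset.mem_filter.mp h).2.2; omega), e]
        · rw [if_pos (Finset.mem_filter.mpr ⟨Finset.mem_univ _, hr, e⟩), e]
    rw [Finset.sum_congr rfl fun r _ => e r, Finset.sum_add_distrib, Finset.sum_add_distrib, ← Finset.mul_sum,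
      ← Finset.mul_sum, Finset.sum_ite_mem, Finset.univ_inter, Finset.sum_ite_eq' Finset.univ (1 : R),
      if_pos (Finset.mem_univ _), Finset.sum_const, Finset.sum_const, Finset.card_univ,
      ← Nat.card_eq_fintype_card, hR] at hb
    simp only [smul_eq_mul, mul_one] at hb
    omega
  -- two different planes
  have hmemS : ∀ {r : R}, r ∈ S ↔ r ≠ 1 ∧ Nat.card (F r) = 4 := by simp [hS]
  let Stab : ↥(P : Subgroup G) → Subgroup R := fun x => MulAction.stabilizer R x
  have memSt : ∀ {r : R} {x : (P : Subgroup G)}, r ∈ Stab x ↔ x ∈ F r := Iff.rfl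
  obtain ⟨r1, hr1⟩ : S.Nonempty := by
    refine Finset.card_ne_zero.mp fun h0 => ?_
    rw [h0] at hsum
    norm_num at hsum
  obtain ⟨r2, hr2, hne12⟩ : ∃ r2 ∈ S, F r2 ≠ F r1 := by
    by_contra hall
    push Not at hall
    let St : Subgroup R := ⨅ x : F r1, Stab x.1
    have hSt : ∀ r : R, r ∈ St ↔ r = 1 ∨ r ∈ S := by
      intro r
      constructor
      · intro hr
        by_cases h1 : r = 1
        · exact Or.inl h1
        refine Or.inr (hmemS.mpr ⟨h1, ?_⟩)
        have hle : F r1 ≤ F r := fun x hx => memSt.mp (Subgroup.mem_iInf.mp hr ⟨x, hx⟩)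
        have := Nat.le_of_dvd Nat.card_pos (Subgroup.card_dvd_of_le hle)
        rw [(hmemS.mp hr1).2] at this
        rcases hF16 r h1 with e | e
        · omega
        · exact e
      · rintro (rfl | hr)
        · exact one_mem _
        · exact Subgroup.mem_iInf.mpr fun x => memSt.mpr (by rw [hall r hr]; exact x.2)
    have hcSt : Nat.card St = S.card + 1 := by
      rw [← Finset.card_insert_of_notMem (a := (1 : R)) (s := S) (by simp [hS]), ← Nat.card_eq_finsetCard]
      exact Nat.card_congr (Equiv.subtypeEquivRight fun r => by rw [hSt r, Finset.mem_insert])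
    have hd := Subgroup.card_subgroup_dvd_card St
    rw [hR, hcSt] at hd
    have hle := Nat.le_of_dvd (by norm_num) hd
    have hS8 : S.card ≤ 8 := by omega
    interval_cases hc : S.card <;> omega
  obtain ⟨h11, h14⟩ := hmemS.mp hr1
  obtain ⟨h21, h24⟩ := hmemS.mp hr2
  have hno : ∀ x : (P : Subgroup G), x ≠ 1 → x ∈ F r1 → x ∈ F r2 → False := by
    intro x hx h1 h2
    have h1s : r1 ∈ Stab x := memSt.mpr h1
    have h2s : r2 ∈ Stab x := memSt.mpr h2
    by_cases htop : Stab x = ⊤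
    · -- everything fixes `x`, so nine does not divide the count
      have hall : ∀ r : R, r ≠ 1 → r ∈ S := by
        intro r hr
        refine hmemS.mpr ⟨hr, (hF16 r hr).resolve_left fun e => ?_⟩
        have hxr : x ∈ F r := memSt.mp (htop ▸ Subgroup.mem_top r)
        rw [Subgroup.card_eq_one.mp e] at hxr
        exact hx (Subgroup.mem_bot.mp hxr)
      have hS' : S = Finset.univ.erase (1 : R) := by
        ext r
        exact ⟨fun h => Finset.mem_erase.mpr ⟨(hmemS.mp h).1, Finset.mem_univ _⟩,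
          fun h => hall r (Finset.mem_erase.mp h).1⟩
      rw [hS', Finset.card_erase_of_mem (Finset.mem_univ _), Finset.card_univ, ← Nat.card_eq_fintype_card,
        hR] at hsum
      norm_num at hsum
    · have hd := Subgroup.card_subgroup_dvd_card (Stab x)
      rw [hR] at hd
      obtain ⟨i, hi, hci⟩ := (Nat.dvd_prime_pow Nat.prime_three).mp (show Nat.card (Stab x) ∣ 3 ^ 2 by rw [show (3 : ℕ) ^ 2 = 9 from rfl]; exact hd)
      have hi1 : i = 1 := by
        interval_cases i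
        · rw [pow_zero] at hci
          rw [Subgroup.card_eq_one.mp hci] at h1s
          exact absurd (Subgroup.mem_bot.mp h1s) h11
        · rfl
        · exact absurd (Subgroup.eq_top_of_card_eq _ (by rw [hci, hR]; norm_num)) htop
      rw [hi1, pow_one] at hci
      have hgen : Subgroup.zpowers r1 = Stab x := by
        refine Subgroup.eq_of_le_of_card_ge (Subgroup.zpowers_le.mpr h1s) ?_
        rw [hci, Nat.card_zpowers]
        have h9 : orderOf r1 ∣ 9 := hR ▸ orderOf_dvd_natCard r1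
        have h1' : orderOf r1 ≠ 1 := fun e => h11 (orderOf_eq_one_iff.mp e)
        have := Nat.le_of_dvd (by norm_num) h9
        interval_cases orderOf r1 <;> omega
      have hle : F r1 ≤ F r2 := by
        intro w hw
        have : Subgroup.zpowers r1 ≤ Stab w := Subgroup.zpowers_le.mpr (memSt.mpr hw)
        exact memSt.mp (this (hgen ▸ h2s))
      exact hne12 (Subgroup.eq_of_le_of_card_ge hle (by rw [h14, h24])).symm
  -- the stabiliser of a non-trivial fixed point of one of them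
  have key : ∀ (s t : R), s ≠ 1 → Nat.card (F s) = 4 → t ≠ 1 → (∀ x, x ≠ 1 → x ∈ F s → x ∈ F t → False) →
      ∀ x, x ≠ 1 → x ∈ F s → ∀ r : R, x ∈ F r → ∀ y ∈ F s, y ∈ F r := by
    intro s t hs1 hs4 ht1 hst x hx hxs r hxr y hy
    have htn : t ∉ Stab x := fun hh => hst x hx hxs (memSt.mp hh)
    have hd := Subgroup.card_subgroup_dvd_card (Stab x)
    rw [hR] at hd
    have hne9 : Nat.card (Stab x) ≠ 9 := fun e => htn (by
      rw [Subgroup.eq_top_of_card_eq (Stab x) (e.trans hR.symm)]; exact Subgroup.mem_top _)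
    have hgen : Subgroup.zpowers s = Stab x := by
      refine Subgroup.eq_of_le_of_card_ge (Subgroup.zpowers_le.mpr (memSt.mpr hxs)) ?_
      rw [Nat.card_zpowers]
      have h9 : orderOf s ∣ 9 := hR ▸ orderOf_dvd_natCard s
      have h1' : orderOf s ≠ 1 := fun e => hs1 (orderOf_eq_one_iff.mp e)
      have := Nat.le_of_dvd (by norm_num) h9
      have := Nat.le_of_dvd (by norm_num) hd
      interval_cases orderOf s <;> interval_cases Nat.card (Stab x) <;> omega
    have hle : Subgroup.zpowers s ≤ Stab y := Subgroup.zpowers_le.mpr (memSt.mpr hy)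
    exact memSt.mp (hle (hgen ▸ memSt.mpr hxr))
  let A := (F r1).map (P : Subgroup G).subtype
  let B := (F r2).map (P : Subgroup G).subtype
  have memM : ∀ {r : R} {g : G}, g ∈ (F r).map (P : Subgroup G).subtype ↔
      ∃ hg : g ∈ (P : Subgroup G), (⟨g, hg⟩ : (P : Subgroup G)) ∈ F r := by
    intro r g
    constructor
    · rintro ⟨w, hw, rfl⟩
      exact ⟨w.2, hw⟩
    · rintro ⟨hg, hw⟩
      exact ⟨_, hw, rfl⟩
  have hfus : ∀ r : R, ∀ x ∈ (F r).map (P : Subgroup G).subtype, ∀ y ∈ (P : Subgroup G), IsConj x y →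
      y ∈ (F r).map (P : Subgroup G).subtype := by
    intro r x hx y hy hc
    obtain ⟨hxP, hxF⟩ := memM.mp hx
    obtain ⟨g, hg⟩ := isConj_iff.mp hc
    obtain ⟨n, hn, hnx⟩ := Fusion.fusion_of_abelian (Fusion.sylIn_top P) (fun a ha => by
      refine Subgroup.mem_centralizer_iff.mpr fun w hw => ?_
      have h1 := hsq a ha
      have h2 := hsq w hw
      have h3 := hsq _ (mul_mem hw ha)
      calc w * a = (w * a)⁻¹ := (inv_eq_of_mul_eq_one_right h3).symm
        _ = a⁻¹ * w⁻¹ := mul_inv_rev w a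
        _ = a * w := by rw [inv_eq_of_mul_eq_one_right h1, inv_eq_of_mul_eq_one_right h2]) hxP
      (hg ▸ hy)
    rw [hg] at hnx
    refine memM.mpr ⟨hy, ?_⟩
    have e : (⟨y, hy⟩ : (P : Subgroup G)) = ρ ⟨n, hn⟩ ⟨x, hxP⟩ := Subtype.ext hnx.symm
    have hcom := congrArg Subtype.val (mul_comm' r ⟨ρ ⟨n, hn⟩, ⟨_, rfl⟩⟩)
    rw [e, memF]
    have := DFunLike.congr_fun hcom ⟨x, hxP⟩
    simp only [Subgroup.coe_mul, MulAut.mul_apply] at this
    rw [this, memF.mp hxF]
  have hmove : ∀ (s t : R), t ≠ 1 → (∀ x, x ≠ 1 → x ∈ F s → x ∈ F t → False) →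
      ∃ c ∈ N, (∀ g ∈ (F t).map (P : Subgroup G).subtype, c * g * c⁻¹ = g) ∧
        ∀ g ∈ (F s).map (P : Subgroup G).subtype, g ≠ 1 → c * g * c⁻¹ ≠ g := by
    intro s t ht1 hst
    obtain ⟨n, hn⟩ := t.2
    refine ⟨n, n.2, fun g hg => ?_, fun g hg hg1 he' => ?_⟩
    · obtain ⟨hgP, hgF⟩ := memM.mp hg
      have := congrArg Subtype.val (memF.mp hgF)
      rw [← hn, hρ] at this
      exact this
    · obtain ⟨hgP, hgF⟩ := memM.mp hg
      refine hst ⟨g, hgP⟩ (fun e => hg1 (congrArg Subtype.val e)) hgF (memF.mpr (Subtype.ext ?_))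
      rw [← hn, hρ]
      exact he'
  have hcent : ∀ (s t : R), s ≠ 1 → Nat.card (F s) = 4 → t ≠ 1 → (∀ x, x ≠ 1 → x ∈ F s → x ∈ F t → False) →
      ∀ n ∈ N, ∀ g ∈ (F s).map (P : Subgroup G).subtype, g ≠ 1 → n * g * n⁻¹ = g →
        ∀ g' ∈ (F s).map (P : Subgroup G).subtype, n * g' * n⁻¹ = g' := by
    intro s t hs1 hs4 ht1 hst n hn g hg hg1 hng g' hg'
    obtain ⟨hgP, hgF⟩ := memM.mp hg
    obtain ⟨hgP', hgF'⟩ := memM.mp hg'
    have := key s t hs1 hs4 ht1 hst ⟨g, hgP⟩ (fun e => hg1 (congrArg Subtype.val e)) hgF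
      ⟨ρ ⟨n, hn⟩, ⟨_, rfl⟩⟩ (memF.mpr (Subtype.ext hng)) _ hgF'
    exact congrArg Subtype.val (memF.mp this)
  have hno' : ∀ x : (P : Subgroup G), x ≠ 1 → x ∈ F r2 → x ∈ F r1 → False := fun x hx a b => hno x hx b a
  refine ⟨A, B, hcard, hsq, Subgroup.map_subtype_le _, Subgroup.map_subtype_le _,
    (Subgroup.card_map_of_injective Subtype.val_injective).trans h14,
    (Subgroup.card_map_of_injective Subtype.val_injective).trans h24, ?_, hfus r1, hfus r2,
    hmove r2 r1 h11 hno', hmove r1 r2 h21 hno, hcent r1 r2 h11 h14 h21 hno, hcent r2 r1 h21 h24 h11 hno'⟩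
  rw [Subgroup.eq_bot_iff_forall]
  rintro g ⟨hg1, hg2⟩
  obtain ⟨hgP, hgF1⟩ := memM.mp hg1
  obtain ⟨_, hgF2⟩ := memM.mp hg2
  by_contra hne
  exact hno ⟨g, hgP⟩ (fun e => hne (congrArg Subtype.val e)) hgF1 hgF2

end Cfsg.Agent.Char.SixteenNine
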